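import Cfsg.Agent.Lib.M24Two74.PointChecks

/-!
Kernel checks on the members 9 to 17.
-/

set_option autoImplicit false
set_option maxRecDepth 100000

namespace Cfsg.Agent.Lib.M24Two74

open Cfsg.Agent.Lib.CosetTable.Lanes

theorem members_check1 : allB memberOK [9, 10, 11, 12, 13, 14, 15, 16, 17] = true := by decide +kernel

end Cfsg.Agent.Lib.M24Two74
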