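import Mathlib
import Cfsg.Prelude.Def_Classical
import Cfsg.Agent.Lib.M24Two74.Data
import Cfsg.Agent.Lib.Forms.Parity
import Cfsg.Agent.Lib.Orth.Omega
import Cfsg.Agent.Lib.Classical.LowRank.MinusSix
import Cfsg.Agent.Lib.Classical.Standard
import Cfsg.Agent.Lib.Classical.UnitaryCentre
import Cfsg.Agent.Lib.UThreeThree.Table

/-!
The 126 points of norm one of the minus form in six dimensions over three elements, and the group
induced on them by the isometry group.
-/

set_option autoImplicit false
set_option maxRecDepth 100000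

namespace Cfsg.Agent.Lib.M24Two74

open Cfsg
open Cfsg.Agent.Lib
open Cfsg.Agent.Lib.Forms
open scoped commutatorElement

/-- The index type of the form. -/
abbrev I6 : Type := (Fin 2 ⊕ Fin 2) ⊕ Fin 2

/-- digit `k` of a code -/
def dig (n k : ℕ) : ℕ := n / 3 ^ k % 3

/-- the position of an index -/
def posI : I6 → ℕ
  | .inl (.inl i) => i.val
  | .inl (.inr i) => 2 + i.val
  | .inr i => 4 + i.val

/-- The vector of a code. -/
def vec (n : ℕ) : I6 → ZMod 3 := fun a => (dig n (posI a) : ZMod 3)

theorem dig_lt (n k : ℕ) : dig n k < 3 := Nat.mod_lt _ (by norm_num)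

/-- assemble a code -/
def mk6 (a b c d e f : ℕ) : ℕ := a % 3 + 3 * (b % 3) + 9 * (c % 3) + 27 * (d % 3) + 81 * (e % 3) + 243 * (f % 3)

/-- the form on codes -/
def cq (n : ℕ) : ℕ :=
  (dig n 0 * dig n 2 + dig n 1 * dig n 3 + dig n 4 * dig n 4 + dig n 5 * dig n 5) % 3

/-- the polar form on codes -/
def cp (n m : ℕ) : ℕ :=
  (dig n 0 * dig m 2 + dig n 2 * dig m 0 + dig n 1 * dig m 3 + dig n 3 * dig m 1
    + 2 * (dig n 4 * dig m 4) + 2 * (dig n 5 * dig m 5)) % 3

theorem cq_lt (n : ℕ) : cq n < 3 := Nat.mod_lt _ (by norm_num)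

theorem cp_lt (n m : ℕ) : cp n m < 3 := Nat.mod_lt _ (by norm_num)

/-- `x + c v` on codes -/
def caxpy (c v x : ℕ) : ℕ :=
  mk6 (dig x 0 + c * dig v 0) (dig x 1 + c * dig v 1) (dig x 2 + c * dig v 2)
    (dig x 3 + c * dig v 3) (dig x 4 + c * dig v 4) (dig x 5 + c * dig v 5)

/-- negation on codes -/
def cneg (n : ℕ) : ℕ := caxpy 1 n n

/-- reflection on codes -/
def crefl (v x : ℕ) : ℕ := caxpy (2 * (cq v * cp v x)) v x

/-- same line -/
def cline (n m : ℕ) : Bool := Nat.beq n m || Nat.beq n (cneg m)

/-- The minus form. -/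
noncomputable def qform : QuadraticForm (ZMod 3) (I6 → ZMod 3) :=
  QuadraticMap.linMulLin (LinearMap.proj (.inl (.inl 0))) (LinearMap.proj (.inl (.inr 0))) +
    QuadraticMap.linMulLin (LinearMap.proj (.inl (.inl 1))) (LinearMap.proj (.inl (.inr 1))) +
    QuadraticMap.linMulLin (LinearMap.proj (.inr 0)) (LinearMap.proj (.inr 0)) +
    QuadraticMap.linMulLin (LinearMap.proj (.inr 1)) (LinearMap.proj (.inr 1))

theorem aniso3 : ∀ z₁ z₂ : ZMod 3, z₁ ^ 2 + 0 * z₁ * z₂ + 1 * z₂ ^ 2 = 0 → z₁ = 0 ∧ z₂ = 0 := by
  decide +kernel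

theorem coe_qform : ⇑qform = quadFormMinus 2 (ZMod 3) 0 1 := by
  funext v
  simp [qform, quadFormMinus, Fin.sum_univ_two]
  ring

theorem cast_mod3 (a : ℕ) : ((a % 3 : ℕ) : ZMod 3) = (a : ZMod 3) := ZMod.natCast_mod a 3

theorem qform_vec (n : ℕ) : qform (vec n) = (cq n : ZMod 3) := by
  simp [qform, vec, posI, cq, cast_mod3]

theorem polar_vec (n m : ℕ) : QuadraticMap.polar qform (vec n) (vec m) = (cp n m : ZMod 3) := by
  simp [QuadraticMap.polar, qform, vec, posI, cp, cast_mod3]
  ring

theorem dig_mk6 (a b c d e f : ℕ) :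
    dig (mk6 a b c d e f) 0 = a % 3 ∧ dig (mk6 a b c d e f) 1 = b % 3 ∧ dig (mk6 a b c d e f) 2 = c % 3 ∧
      dig (mk6 a b c d e f) 3 = d % 3 ∧ dig (mk6 a b c d e f) 4 = e % 3 ∧ dig (mk6 a b c d e f) 5 = f % 3 := by
  simp only [dig, mk6, show (3 : ℕ) ^ 0 = 1 from rfl, show (3 : ℕ) ^ 1 = 3 from rfl, show (3 : ℕ) ^ 2 = 9 from rfl,
    show (3 : ℕ) ^ 3 = 27 from rfl, show (3 : ℕ) ^ 4 = 81 from rfl, show (3 : ℕ) ^ 5 = 243 from rfl]
  omega

theorem mk6_lt (a b c d e f : ℕ) : mk6 a b c d e f < 729 := by simp only [mk6]; omega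

theorem crefl_lt (v x : ℕ) : crefl v x < 729 := mk6_lt _ _ _ _ _ _

theorem cneg_lt (n : ℕ) : cneg n < 729 := mk6_lt _ _ _ _ _ _

theorem vec_caxpy (c v x : ℕ) : vec (caxpy c v x) = vec x + (c : ZMod 3) • vec v := by
  obtain ⟨h0, h1, h2, h3, h4, h5⟩ := dig_mk6 (dig x 0 + c * dig v 0) (dig x 1 + c * dig v 1)
    (dig x 2 + c * dig v 2) (dig x 3 + c * dig v 3) (dig x 4 + c * dig v 4) (dig x 5 + c * dig v 5)
  funext a
  rcases a with (a | a) | a <;> fin_cases a <;>
    simp [vec, posI, caxpy, h0, h1, h2, h3, h4, h5, cast_mod3]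

theorem vec_cneg (n : ℕ) : vec (cneg n) = -vec n := by
  rw [cneg, vec_caxpy, Nat.cast_one, one_smul]
  funext a
  show vec n a + vec n a = -vec n a
  have : ∀ z : ZMod 3, z + z = -z := by decide
  exact this _

/-- The code of a vector. -/
def code (x : I6 → ZMod 3) : ℕ :=
  mk6 (x (.inl (.inl 0))).val (x (.inl (.inl 1))).val (x (.inl (.inr 0))).val (x (.inl (.inr 1))).val
    (x (.inr 0)).val (x (.inr 1)).val

theorem code_lt (x : I6 → ZMod 3) : code x < 729 := mk6_lt _ _ _ _ _ _

theorem vec_code (x : I6 → ZMod 3) : vec (code x) = x := by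
  obtain ⟨h0, h1, h2, h3, h4, h5⟩ := dig_mk6 (x (.inl (.inl 0))).val (x (.inl (.inl 1))).val
    (x (.inl (.inr 0))).val (x (.inl (.inr 1))).val (x (.inr 0)).val (x (.inr 1)).val
  funext a
  rcases a with (a | a) | a <;> fin_cases a <;>
    simp [vec, posI, code, h0, h1, h2, h3, h4, h5]

theorem vec_injOn {n m : ℕ} (hn : n < 729) (hm : m < 729) (h : vec n = vec m) : n = m := by
  have key : ∀ a : I6, dig n (posI a) = dig m (posI a) := fun a => by
    have := congrArg ZMod.val (congrFun h a)
    rwa [vec, vec, ZMod.val_natCast, ZMod.val_natCast, Nat.mod_eq_of_lt (dig_lt _ _),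
      Nat.mod_eq_of_lt (dig_lt _ _)] at this
  have h0 := key (.inl (.inl 0)); have h1 := key (.inl (.inl 1)); have h2 := key (.inl (.inr 0))
  have h3 := key (.inl (.inr 1)); have h4 := key (.inr 0); have h5 := key (.inr 1)
  simp only [posI, dig, Fin.val_zero, Fin.val_one, Nat.reduceAdd, Nat.reducePow] at h0 h1 h2 h3 h4 h5
  omega

/-- the code of the point of a block -/
def vcode (b : ℕ) : ℕ := vecData.getD b 0

/-- The point of a block. -/
def V (b : Fin 126) : I6 → ZMod 3 := vec (vcode b.val)

theorem vcode_ok : (List.range 126).all (fun b => Nat.blt (vcode b) 729 && Nat.beq (cq (vcode b)) 1) = true := by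
  decide +kernel

theorem vcode_spec (b : Fin 126) : vcode b.val < 729 ∧ cq (vcode b.val) = 1 := by
  have := List.all_eq_true.1 vcode_ok b.val (List.mem_range.2 b.isLt)
  simp only [Bool.and_eq_true, Nat.blt_eq] at this
  exact ⟨this.1, Nat.eq_of_beq_eq_true this.2⟩

theorem qform_V (b : Fin 126) : qform (V b) = 1 := by rw [V, qform_vec, (vcode_spec b).2, Nat.cast_one]

theorem points_all : (List.range 729).all (fun n =>
    !Nat.beq (cq n) 1 || (List.range 126).any (fun b => cline n (vcode b))) = true := by decide +kernel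

theorem eq_or_neg_of_cline {n m : ℕ} (h : cline n m = true) : vec n = vec m ∨ vec n = -vec m := by
  simp only [cline, Bool.or_eq_true] at h
  rcases h with h | h
  · exact Or.inl (by rw [Nat.eq_of_beq_eq_true h])
  · exact Or.inr (by rw [Nat.eq_of_beq_eq_true h, vec_cneg])

theorem exists_point {x : I6 → ZMod 3} (hx : qform x = 1) : ∃ b, x = V b ∨ x = -V b := by
  have h := List.all_eq_true.1 points_all _ (List.mem_range.2 (code_lt x))
  have hq : cq (code x) = 1 := by
    have e := congrArg ZMod.val ((qform_vec (code x)).symm.trans (by rw [vec_code, hx]))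
    rwa [ZMod.val_natCast, ZMod.val_one, Nat.mod_eq_of_lt (cq_lt _)] at e
  simp only [hq, Bool.or_eq_true, List.any_eq_true, List.mem_range] at h
  rcases h with h | ⟨b, hb, h⟩
  · simp at h
  · exact ⟨⟨b, hb⟩, vec_code x ▸ eq_or_neg_of_cline h⟩

theorem points_distinct : (List.range 126).all (fun b => (List.range 126).all (fun c =>
    Nat.beq b c || !cline (vcode b) (vcode c))) = true := by decide +kernel

theorem V_inj {b c : Fin 126} (h : V b = V c ∨ V b = -V c) : b = c := by
  have hc : cline (vcode b.val) (vcode c.val) = true := by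
    simp only [cline, Bool.or_eq_true]
    rcases h with h | h
    · exact Or.inl (by rw [vec_injOn (vcode_spec b).1 (vcode_spec c).1 h]; exact Nat.beq_refl _)
    · refine Or.inr ?_
      rw [V, V, ← vec_cneg] at h
      rw [vec_injOn (vcode_spec b).1 (mk6_lt _ _ _ _ _ _) h]
      exact Nat.beq_refl _
  have := List.all_eq_true.1 (List.all_eq_true.1 points_distinct b.val (List.mem_range.2 b.isLt)) c.val
    (List.mem_range.2 c.isLt)
  simp only [hc, Bool.not_true, Bool.or_false] at this
  exact Fin.ext (Nat.eq_of_beq_eq_true this)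

/-- The isometry group. -/
noncomputable abbrev O6 : Subgroup (Matrix.GeneralLinearGroup I6 (ZMod 3)) := isometryGroup (ZMod 3) ⇑qform

/-- The action of an isometry on vectors. -/
noncomputable def app (g : O6) (x : I6 → ZMod 3) : I6 → ZMod 3 :=
  ((g : Matrix.GeneralLinearGroup I6 (ZMod 3)) : Matrix I6 I6 (ZMod 3)).mulVec x

theorem app_mul (g h : O6) (x : I6 → ZMod 3) : app (g * h) x = app g (app h x) := by
  simp [app, Matrix.mulVec_mulVec]

theorem app_one (x : I6 → ZMod 3) : app 1 x = x := by simp [app]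

theorem app_neg (g : O6) (x : I6 → ZMod 3) : app g (-x) = -app g x := Matrix.mulVec_neg _ _

theorem qform_app (g : O6) (x : I6 → ZMod 3) : qform (app g x) = qform x :=
  isometryGroup_apply g x

theorem polar_app (g : O6) (x y : I6 → ZMod 3) :
    QuadraticMap.polar qform (app g x) (app g y) = QuadraticMap.polar qform x y := by
  simp only [QuadraticMap.polar, app, ← Matrix.mulVec_add]
  rw [isometryGroup_apply g, isometryGroup_apply g, isometryGroup_apply g]

theorem app_inj {g h : O6} (e : ∀ x, app g x = app h x) : g = h :=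
  isoToEquiv_injective _ (LinearEquiv.ext fun x => by rw [isoToEquiv_apply, isoToEquiv_apply]; exact e x)

/-- Image of a point. -/
noncomputable def img (g : O6) (b : Fin 126) : Fin 126 :=
  (exists_point ((qform_app g (V b)).trans (qform_V b))).choose

theorem img_spec (g : O6) (b : Fin 126) : app g (V b) = V (img g b) ∨ app g (V b) = -V (img g b) :=
  (exists_point ((qform_app g (V b)).trans (qform_V b))).choose_spec

theorem img_eq {g : O6} {b c : Fin 126} (h : app g (V b) = V c ∨ app g (V b) = -V c) : img g b = c := by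
  apply V_inj
  rcases img_spec g b with e | e <;> rcases h with h | h <;> rw [e] at h
  · exact Or.inl h
  · exact Or.inr h
  · exact Or.inr (by rw [← h, neg_neg])
  · exact Or.inl (neg_injective h)

theorem img_mul (g h : O6) (b : Fin 126) : img (g * h) b = img g (img h b) := by
  refine img_eq ?_
  rw [app_mul]
  rcases img_spec h b with e | e <;> rcases img_spec g (img h b) with e' | e' <;> rw [e]
  · exact Or.inl e'
  · exact Or.inr e'
  · exact Or.inr (by rw [app_neg, e'])
  · exact Or.inl (by rw [app_neg, e', neg_neg])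

theorem img_one (b : Fin 126) : img 1 b = b := img_eq (Or.inl (app_one _))

/-- The action on the points. -/
noncomputable def act : O6 →* Equiv.Perm (Fin 126) where
  toFun g := ⟨img g, img g⁻¹, fun b => by rw [← img_mul, inv_mul_cancel, img_one],
    fun b => by rw [← img_mul, mul_inv_cancel, img_one]⟩
  map_one' := Equiv.ext img_one
  map_mul' g h := Equiv.ext (img_mul g h)

theorem act_apply (g : O6) (b : Fin 126) : act g b = img g b := rfl

theorem qform_nondeg : (QuadraticMap.polarBilin qform).Nondegenerate := by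
  have key : ∀ x, (∀ y, QuadraticMap.polar qform x y = 0) → x = 0 := by
    intro x h
    have h1 := h (Pi.single (.inl (.inr 0)) 1)
    have h2 := h (Pi.single (.inl (.inr 1)) 1)
    have h3 := h (Pi.single (.inl (.inl 0)) 1)
    have h4 := h (Pi.single (.inl (.inl 1)) 1)
    have h5 := h (Pi.single (.inr 0) 1)
    have h6 := h (Pi.single (.inr 1) 1)
    have two : ∀ z : ZMod 3, (z + 1) * (z + 1) = z * z + 1 → z = 0 := by decide
    simp [QuadraticMap.polar, qform, Pi.single_apply] at h1 h2 h3 h4 h5 h6
    funext a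
    rcases a with (a | a) | a <;> fin_cases a
    · show x (.inl (.inl 0)) = 0; linear_combination h1
    · show x (.inl (.inl 1)) = 0; linear_combination h2
    · show x (.inl (.inr 0)) = 0; linear_combination h3
    · show x (.inl (.inr 1)) = 0; linear_combination h4
    · show x (.inr 0) = 0; exact two _ (by linear_combination h5)
    · show x (.inr 1) = 0; exact two _ (by linear_combination h6)
  refine ⟨fun x h => key x fun y => ?_, fun y h => key y fun x => ?_⟩
  · simpa using h y
  · rw [QuadraticMap.polar_comm]; simpa using h x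

theorem ex3 : (∃ c : ZMod 3, c ≠ 0 ∧ c ≠ 1) ∨ Fintype.card I6 ≠ 4 := Or.inr (by decide)

theorem app_refl {v : I6 → ZMod 3} (hv : qform v ≠ 0) (x : I6 → ZMod 3) :
    app (reflElem hv) x = x - ((qform v)⁻¹ * QuadraticMap.polar qform v x) • v :=
  reflElem_mulVec hv x

theorem refl_conj {v : I6 → ZMod 3} (hv : qform v ≠ 0) (g : O6) (hgv : qform (app g v) ≠ 0) :
    g * reflElem hv * g⁻¹ = reflElem hgv := by
  rw [mul_inv_eq_iff_eq_mul]
  refine app_inj fun x => ?_
  rw [app_mul, app_mul, app_refl, app_refl, polar_app, qform_app]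
  simp only [app, Matrix.mulVec_sub, Matrix.mulVec_smul]

theorem refl_congr {v w : I6 → ZMod 3} (hv : qform v ≠ 0) (hw : qform w ≠ 0) (h : w = v ∨ w = -v) :
    reflElem hw = reflElem hv := by
  refine app_inj fun x => ?_
  rcases h with rfl | rfl
  · rfl
  · rw [app_refl, app_refl, QuadraticMap.map_neg, QuadraticMap.polar_neg_left, mul_neg, neg_smul_neg]

theorem V_ne (b : Fin 126) : qform (V b) ≠ 0 := by rw [qform_V]; exact one_ne_zero

/-- The reflection of a block. -/
noncomputable def rb (b : Fin 126) : O6 := reflElem (V_ne b)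

theorem app_crefl {v x : ℕ} (hv : qform (vec v) ≠ 0) : app (reflElem hv) (vec x) = vec (crefl v x) := by
  rw [app_refl, crefl, vec_caxpy, qform_vec, polar_vec, sub_eq_add_neg, ← neg_smul]
  congr 2
  have h3 : ∀ a b : ZMod 3, a ≠ 0 → -(a⁻¹ * b) = 2 * (a * b) := by decide +kernel
  rw [h3 _ _ (by rwa [qform_vec] at hv)]
  push_cast
  ring

theorem img_refl {v : ℕ} (hv : qform (vec v) ≠ 0) {b c : Fin 126}
    (h : cline (crefl v (vcode b.val)) (vcode c.val) = true) : img (reflElem hv) b = c := by
  refine img_eq ?_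
  rw [V, app_crefl]
  exact eq_or_neg_of_cline h

theorem wData_ok : (List.range 126).all (fun i => Nat.blt (wData.getD i 0) 729 && Nat.beq (cq (wData.getD i 0)) 2)
    = true := by decide +kernel

/-- The other reflection vectors. -/
def W (i : Fin 126) : I6 → ZMod 3 := vec (wData.getD i.val 0)

theorem qform_W (i : Fin 126) : qform (W i) = 2 := by
  have := List.all_eq_true.1 wData_ok i.val (List.mem_range.2 i.isLt)
  simp only [Bool.and_eq_true] at this
  rw [W, qform_vec, Nat.eq_of_beq_eq_true this.2]
  rfl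

theorem W_ne (i : Fin 126) : qform (W i) ≠ 0 := by rw [qform_W]; decide

theorem wpoints_all : (List.range 729).all (fun n =>
    !Nat.beq (cq n) 2 || (List.range 126).any (fun b => cline n (wData.getD b 0))) = true := by decide +kernel

theorem exists_wpoint {x : I6 → ZMod 3} (hx : qform x = 2) : ∃ i, x = W i ∨ x = -W i := by
  have h := List.all_eq_true.1 wpoints_all _ (List.mem_range.2 (code_lt x))
  have hq : cq (code x) = 2 := by
    have e := congrArg ZMod.val ((qform_vec (code x)).symm.trans (by rw [vec_code, hx]))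
    rwa [ZMod.val_natCast, Nat.mod_eq_of_lt (cq_lt _)] at e
  simp only [hq, Bool.or_eq_true, List.any_eq_true, List.mem_range] at h
  rcases h with h | ⟨b, hb, h⟩
  · simp at h
  · exact ⟨⟨b, hb⟩, vec_code x ▸ eq_or_neg_of_cline h⟩

theorem wSteps_ok : (List.range 125).all (fun i =>
    (wSteps.getD i (0, 0)).1.blt (i + 1) && (wSteps.getD i (0, 0)).2.blt 6 &&
      cline (crefl (vcode (wSteps.getD i (0, 0)).2) (wData.getD (wSteps.getD i (0, 0)).1 0))
        (wData.getD (i + 1) 0)) = true := by decide +kernel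

theorem blockSteps_ok : blockSteps.all (fun s => Nat.blt s.1 126 && Nat.blt s.2.1 126 && Nat.blt s.2.2 18 &&
    cline (crefl (vcode (s.2.2 / 3)) (vcode s.2.1)) (vcode s.1) &&
    !Nat.beq (cp (vcode s.1) (vcode (s.2.2 / 3))) 0 &&
    !Nat.beq (cp (vcode s.2.1) (vcode (s.2.2 / 3))) 0) = true := by decide +kernel

/-- Steps reach every block from block zero. -/
def closesFrom (seen : List ℕ) : List (ℕ × ℕ × ℕ) → List ℕ
  | [] => seen
  | s :: r => if seen.contains s.2.1 then closesFrom (s.1 :: seen) r else closesFrom seen r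

theorem blockSteps_reach :
    (List.range 126).all (fun b => (closesFrom [0] blockSteps).contains b) = true := by decide +kernel

/-- An induction along the steps. -/
theorem block_induction {P : Fin 126 → Prop} (h0 : P 0)
    (hs : ∀ (t a : Fin 126) (j : ℕ), (t.val, a.val, j) ∈ blockSteps → P a → P t) (b : Fin 126) : P b := by
  have key : ∀ (l : List (ℕ × ℕ × ℕ)) (seen : List ℕ), (∀ s ∈ l, s ∈ blockSteps) →
      (∀ n ∈ seen, ∀ hn : n < 126, P ⟨n, hn⟩) → ∀ n ∈ closesFrom seen l, ∀ hn : n < 126, P ⟨n, hn⟩ := by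
    intro l
    induction l with
    | nil => intro seen _ h; exact h
    | cons s r ih =>
      intro seen hl h
      rw [closesFrom]
      split
      · rename_i hc
        refine ih _ (fun x hx => hl x (List.mem_cons_of_mem _ hx)) fun n hn hn' => ?_
        rcases List.mem_cons.1 hn with rfl | hn
        · have hok := List.all_eq_true.1 blockSteps_ok s (hl s List.mem_cons_self)
          simp only [Bool.and_eq_true, Nat.blt_eq] at hok
          exact hs ⟨s.1, hn'⟩ ⟨s.2.1, hok.1.1.1.1.2⟩ s.2.2 (hl s List.mem_cons_self)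
            (h _ (List.contains_iff_mem.1 hc) _)
        · exact h n hn hn'
      · exact ih _ (fun x hx => hl x (List.mem_cons_of_mem _ hx)) h
  refine key blockSteps [0] (fun s hs => hs) (fun n hn hn' => ?_) b.val
    (List.contains_iff_mem.1 (List.all_eq_true.1 blockSteps_reach b.val (List.mem_range.2 b.isLt))) b.isLt
  rw [List.mem_singleton] at hn
  subst hn
  exact h0

theorem step_data {t a : Fin 126} {j : ℕ} (h : (t.val, a.val, j) ∈ blockSteps) :
    ∃ hj : j / 3 < 6, cline (crefl (vcode (j / 3)) (vcode a.val)) (vcode t.val) = true ∧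
      QuadraticMap.polar qform (V t) (V ⟨j / 3, by omega⟩) ≠ 0 ∧
      QuadraticMap.polar qform (V a) (V ⟨j / 3, by omega⟩) ≠ 0 := by
  have hok := List.all_eq_true.1 blockSteps_ok _ h
  simp only [Bool.and_eq_true, Nat.blt_eq, Bool.not_eq_true'] at hok
  obtain ⟨⟨⟨⟨-, hj⟩, hl⟩, hp⟩, hp'⟩ := hok
  have hne : ∀ n m : ℕ, Nat.beq (cp n m) 0 = false → QuadraticMap.polar qform (vec n) (vec m) ≠ 0 := by
    intro n m h he
    rw [polar_vec] at he
    have := congrArg ZMod.val he
    rw [ZMod.val_natCast, Nat.mod_eq_of_lt (cp_lt _ _), ZMod.val_zero] at this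
    rw [this] at h
    simp at h
  exact ⟨by omega, hl, hne _ _ hp, hne _ _ hp'⟩

theorem rb_conj (g : O6) (a : Fin 126) : g * rb a * g⁻¹ = rb (img g a) := by
  rw [rb, refl_conj _ g (by rw [qform_app]; exact V_ne a)]
  exact refl_congr _ _ (img_spec g a)

/-- A subgroup containing six basic reflections and one of the other kind contains the whole image. -/
theorem range_le {K : Subgroup (Equiv.Perm (Fin 126))}
    (h1 : ∀ j : Fin 126, j.val < 6 → act (rb j) ∈ K) (h2 : act (reflElem (W_ne 0)) ∈ K) :
    act.range ≤ K := by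
  have hb : ∀ b, act (rb b) ∈ K := by
    intro b
    induction b using block_induction with
    | h0 => exact h1 0 (by norm_num)
    | hs t a j hmem ha =>
      obtain ⟨hj, hl, -, -⟩ := step_data hmem
      have e : img (rb ⟨j / 3, by omega⟩) a = t := img_refl _ hl
      rw [← e, ← rb_conj, map_mul, map_mul, map_inv]
      exact mul_mem (mul_mem (h1 _ hj) ha) (inv_mem (h1 _ hj))
  have hw : ∀ i : Fin 126, act (reflElem (W_ne i)) ∈ K := by
    rintro ⟨i, hi⟩
    induction i using Nat.strong_induction_on with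
    | _ i ih =>
    cases i with
    | zero => exact h2
    | succ i =>
      have hok := List.all_eq_true.1 wSteps_ok i (List.mem_range.2 (by omega))
      simp only [Bool.and_eq_true, Nat.blt_eq] at hok
      obtain ⟨⟨hp, hj⟩, hl⟩ := hok
      set p := (wSteps.getD i (0, 0)).1
      set j := (wSteps.getD i (0, 0)).2
      have hpw := ih p hp (by omega)
      have hv : app (rb ⟨j, by omega⟩) (W ⟨p, by omega⟩) = vec (crefl (vcode j) (wData.getD p 0)) :=
        app_crefl _
      have hne : qform (app (rb ⟨j, by omega⟩) (W ⟨p, by omega⟩)) ≠ 0 := by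
        rw [qform_app]; exact W_ne _
      have e : reflElem (W_ne ⟨i + 1, hi⟩) = reflElem hne := by
        refine refl_congr _ _ ?_
        have h' := eq_or_neg_of_cline hl
        rw [hv, W]
        rcases h' with h' | h'
        · exact Or.inl h'.symm
        · exact Or.inr (by rw [h', neg_neg])
      rw [e, ← refl_conj (W_ne ⟨p, by omega⟩), map_mul, map_mul, map_inv]
      exact mul_mem (mul_mem (h1 _ hj) hpw) (inv_mem (h1 _ hj))
  rintro _ ⟨g, rfl⟩
  induction g using isometry_induction qform_nondeg ex3 with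
  | h1 => rw [map_one]; exact one_mem K
  | hr v hv g hg =>
    rw [map_mul]
    refine mul_mem ?_ hg
    have h3 : ∀ z : ZMod 3, z ≠ 0 → z = 1 ∨ z = 2 := by decide
    rcases h3 _ hv with hq | hq
    · obtain ⟨b, hb'⟩ := exists_point hq
      rw [refl_congr (V_ne b) hv hb']
      exact hb b
    · obtain ⟨i, hi⟩ := exists_wpoint hq
      rw [refl_congr (W_ne i) hv hi]
      exact hw i

theorem perp_all : (List.range 729).all (fun y =>
    Nat.beq y 0 || (List.range 126).any (fun b => !Nat.beq (cp y (vcode b)) 0)) = true := by decide +kernel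

theorem eq_zero_of_perp {y : I6 → ZMod 3} (h : ∀ b, QuadraticMap.polar qform y (V b) = 0) : y = 0 := by
  have h' := List.all_eq_true.1 perp_all _ (List.mem_range.2 (code_lt y))
  simp only [Bool.or_eq_true, List.any_eq_true, List.mem_range, Bool.not_eq_true'] at h'
  rcases h' with h' | ⟨b, hb, h'⟩
  · rw [← vec_code y, Nat.eq_of_beq_eq_true h']
    funext a
    simp [vec, dig]
  · exfalso
    have := h ⟨b, hb⟩
    rw [← vec_code y, V, polar_vec] at this
    have := congrArg ZMod.val this
    rw [ZMod.val_natCast, Nat.mod_eq_of_lt (cp_lt _ _), ZMod.val_zero] at this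
    rw [this] at h'
    simp at h'

/-- An isometry fixing every point is a sign. -/
theorem scalar_of_act_one {g : O6} (h : act g = 1) :
    (∀ x, app g x = x) ∨ (∀ x, app g x = -x) := by
  have hsp : ∀ b, app g (V b) = V b ∨ app g (V b) = -V b := fun b => by
    have := img_spec g b
    rwa [← act_apply, h, Equiv.Perm.one_apply] at this
  have h2 : ∀ b c, QuadraticMap.polar qform (V b) (V c) ≠ 0 → (app g (V b) = V b ↔ app g (V c) = V c) := by
    intro b c hne
    have hp := polar_app g (V b) (V c)
    have hneg : -(QuadraticMap.polar qform (V b) (V c)) ≠ QuadraticMap.polar qform (V b) (V c) := by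
      revert hne
      generalize QuadraticMap.polar qform (V b) (V c) = z
      revert z
      decide
    constructor
    · intro hb
      refine (hsp c).resolve_right fun hc => hneg ?_
      rwa [hb, hc, QuadraticMap.polar_neg_right] at hp
    · intro hc
      refine (hsp b).resolve_right fun hb => hneg ?_
      rwa [hb, hc, QuadraticMap.polar_neg_left] at hp
  have hall : ∀ b, app g (V b) = V b ↔ app g (V 0) = V 0 := by
    intro b
    induction b using block_induction with
    | h0 => exact Iff.rfl
    | hs t a j hmem ha =>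
      obtain ⟨hj, -, hp, hp'⟩ := step_data hmem
      exact ((h2 _ _ hp).trans (h2 _ _ hp').symm).trans ha
  by_cases h0 : app g (V 0) = V 0
  · refine Or.inl fun x => sub_eq_zero.1 (eq_zero_of_perp fun b => ?_)
    rw [QuadraticMap.polar_sub_left]
    nth_rewrite 1 [← (hall b).2 h0]
    rw [polar_app, sub_self]
  · refine Or.inr fun x => eq_neg_of_add_eq_zero_left (eq_zero_of_perp fun b => ?_)
    rw [QuadraticMap.polar_add_left]
    have hb : app g (V b) = -V b := (hsp b).resolve_left fun e => h0 ((hall b).1 e)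
    have hp := polar_app g x (V b)
    rw [hb, QuadraticMap.polar_neg_right] at hp
    linear_combination -hp

/-- The isometry `-1`. -/
noncomputable def negO : O6 :=
  isoMk (LinearEquiv.neg (ZMod 3)) (fun v => by simp [QuadraticMap.map_neg])

theorem app_negO (x : I6 → ZMod 3) : app negO x = -x := by rw [app, negO, isoMk_mulVec]; rfl

theorem act_negO : act negO = 1 := Equiv.ext fun b => img_eq (Or.inr (app_negO _))

theorem negO_ne_one : negO ≠ 1 := by
  intro e
  have h := app_negO (V 0)
  rw [e, app_one] at h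
  have h1 : V 0 = 0 := by
    funext a
    have := congrFun h a
    have h3 : ∀ z : ZMod 3, z = -z → z = 0 := by decide
    exact h3 _ this
  exact V_ne 0 (by rw [h1, map_zero])

theorem ker_act : ∀ g, g ∈ act.ker ↔ g = 1 ∨ g = negO := by
  intro g
  rw [MonoidHom.mem_ker]
  constructor
  · intro h
    rcases scalar_of_act_one h with h | h
    · exact Or.inl (app_inj fun x => by rw [h, app_one])
    · exact Or.inr (app_inj fun x => by rw [h, app_negO])
  · rintro (rfl | rfl)
    exacts [map_one _, act_negO]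

theorem card_ker_act : Nat.card act.ker = 2 := by
  rw [Nat.card_eq_two_iff]
  refine ⟨⟨1, one_mem _⟩, ⟨negO, (ker_act _).2 (Or.inr rfl)⟩,
    fun e => negO_ne_one (congrArg Subtype.val e).symm, Set.eq_univ_of_forall ?_⟩
  rintro ⟨g, hg⟩
  rcases (ker_act g).1 hg with rfl | rfl <;> simp

theorem card_O6 : Nat.card O6 = 26127360 := by
  show Nat.card (isometryGroup (ZMod 3) ⇑qform) = _
  rw [coe_qform, Classical.natCard_isometryGroup_minus aniso3 2, Nat.card_zmod]
  norm_num [Finset.prod_range_succ]

theorem card_range : Nat.card act.range = 13063680 := by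
  have h := act.ker.card_mul_index
  rw [card_ker_act, card_O6, Subgroup.index_ker] at h
  omega

theorem perms_distinct : (List.range 126).all (fun b => (List.range 126).all (fun c => Nat.beq b c ||
    (List.range 126).any (fun d => !cline (crefl (vcode b) (vcode d)) (vcode d) &&
      cline (crefl (vcode c) (vcode d)) (vcode d)) ||
    (List.range 126).any (fun d => cline (crefl (vcode b) (vcode d)) (vcode d) &&
      !cline (crefl (vcode c) (vcode d)) (vcode d)))) = true := by decide +kernel

theorem act_rb_inj {b c : Fin 126} (h : act (rb b) = act (rb c)) : b = c := by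
  have hfix : ∀ (b d : Fin 126), cline (crefl (vcode b.val) (vcode d.val)) (vcode d.val) = true ↔
      act (rb b) d = d := by
    intro b d
    constructor
    · exact fun h => img_refl _ h
    · intro h
      rw [act_apply] at h
      have hs := img_spec (rb b) d
      have e : app (rb b) (V d) = vec (crefl (vcode b.val) (vcode d.val)) := app_crefl _
      rw [e, h, V] at hs
      simp only [cline, Bool.or_eq_true]
      rcases hs with hs | hs
      · exact Or.inl (by rw [vec_injOn (crefl_lt _ _) (vcode_spec d).1 hs]; exact Nat.beq_refl _)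
      · rw [← vec_cneg] at hs
        exact Or.inr (by rw [vec_injOn (crefl_lt _ _) (cneg_lt _) hs]; exact Nat.beq_refl _)
  have := List.all_eq_true.1 (List.all_eq_true.1 perms_distinct b.val (List.mem_range.2 b.isLt)) c.val
    (List.mem_range.2 c.isLt)
  simp only [Bool.or_eq_true, List.any_eq_true, List.mem_range, Bool.and_eq_true, Bool.not_eq_true',
    ← Bool.not_eq_true] at this
  rcases this with (hbc | ⟨d, hd, h1, h2⟩) | ⟨d, hd, h1, h2⟩
  · exact Fin.ext (Nat.eq_of_beq_eq_true hbc)
  · have h2' := (hfix c ⟨d, hd⟩).1 h2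
    rw [← h] at h2'
    exact absurd ((hfix b ⟨d, hd⟩).2 h2') h1
  · have h1' := (hfix b ⟨d, hd⟩).1 h1
    rw [h] at h1'
    exact absurd ((hfix c ⟨d, hd⟩).2 h1') h2

/-- The image has trivial centre. -/
theorem eq_one_of_central {g : O6} (h : ∀ b, Commute (act g) (act (rb b))) : act g = 1 := by
  refine Equiv.ext fun b => act_rb_inj ?_
  rw [Equiv.Perm.one_apply, act_apply, ← rb_conj, map_mul, map_mul, map_inv, (h b).eq, mul_inv_cancel_right]

theorem sixPoints : (List.range 729).all (fun x => Nat.beq (crefl 81 (crefl 243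
    (crefl (mk6 1 0 1 0 0 0) (crefl (mk6 1 0 2 0 0 0)
      (crefl (mk6 0 1 0 1 0 0) (crefl (mk6 0 1 0 2 0 0) x)))))) (cneg x)) = true := by decide +kernel

theorem refl_mul_mem {v w : I6 → ZMod 3} (hv : qform v ≠ 0) (hw : qform w ≠ 0) (h : qform v = qform w) :
    reflElem hv * reflElem hw ∈ commutator O6 := by
  obtain ⟨g, hg⟩ := exists_conj_reflElem qform_nondeg hv hw h
  have e : reflElem hv * reflElem hw = ⁅reflElem hv, g⁆ := by
    rw [← hg, commutatorElement_def, reflElem_inv]
    simp only [mul_assoc]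
  rw [e]
  exact Subgroup.commutator_mem_commutator (Subgroup.mem_top _) (Subgroup.mem_top _)

theorem negO_mem : negO ∈ commutator O6 := by
  have n81 : qform (vec 81) = 1 := by rw [qform_vec]; decide +kernel
  have n243 : qform (vec 243) = 1 := by rw [qform_vec]; decide +kernel
  have na : qform (vec (mk6 1 0 1 0 0 0)) = 1 := by rw [qform_vec]; decide +kernel
  have nb : qform (vec (mk6 1 0 2 0 0 0)) = 2 := by rw [qform_vec]; decide +kernel
  have nc : qform (vec (mk6 0 1 0 1 0 0)) = 1 := by rw [qform_vec]; decide +kernel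
  have nd : qform (vec (mk6 0 1 0 2 0 0)) = 2 := by rw [qform_vec]; decide +kernel
  have two0 : (2 : ZMod 3) ≠ 0 := by decide
  let r1 := reflElem (n81.trans_ne one_ne_zero)
  let r2 := reflElem (n243.trans_ne one_ne_zero)
  let r3 := reflElem (na.trans_ne one_ne_zero)
  let r4 := reflElem (nb.trans_ne two0)
  let r5 := reflElem (nc.trans_ne one_ne_zero)
  let r6 := reflElem (nd.trans_ne two0)
  have e : negO = r1 * r2 * (r3 * r4 * (r5 * r6)) := by
    refine app_inj fun x => ?_
    have hx := Nat.eq_of_beq_eq_true (List.all_eq_true.1 sixPoints _ (List.mem_range.2 (code_lt x)))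
    rw [← vec_code x, app_negO, ← vec_cneg, ← hx]
    simp only [app_mul, r1, r2, r3, r4, r5, r6, app_crefl]
  rw [e]
  refine mul_mem (refl_mul_mem _ _ (n81.trans n243.symm)) ?_
  have hcomm : r3 * r4 * (r5 * r6) = (r3 * r5) * ⁅r5⁻¹, r4⁆ * (r4 * r6) := by
    rw [commutatorElement_def, inv_inv]
    simp only [mul_assoc]
    rw [← mul_assoc r5 r5⁻¹, mul_inv_cancel, one_mul, inv_mul_cancel_left]
  rw [hcomm]
  exact mul_mem (mul_mem (refl_mul_mem _ _ (na.trans nc.symm))
    (Subgroup.commutator_mem_commutator (Subgroup.mem_top _) (Subgroup.mem_top _)))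
    (refl_mul_mem _ _ (nb.trans nd.symm))

theorem card_nine : Fintype.card UThreeThree.Nine = 3 ^ 2 := by rw [UThreeThree.card_nine]; norm_num

theorem card_PSU : Nat.card (PSU 4 UThreeThree.Nine 3) = 3265920 := by
  have h := Classical.natCard_PSU (F := UThreeThree.Nine) (q := 3) card_nine 4 (by norm_num)
  norm_num [Finset.prod_range_succ, Nat.even_iff] at h
  omega

theorem map_equiv_of_center {O H P : Type*} [Group O] [Finite O] [Group H] [Group P] (f : O →* H)
    (S : Subgroup O) {z : O} (hz : z ∈ S) (hz1 : z ≠ 1) (hker : ∀ g, g ∈ f.ker ↔ g = 1 ∨ g = z)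
    (hc : ∀ y, z * y = y * z) (hZ : Nat.card (Subgroup.center ↥S) = 2)
    (e : ↥S ⧸ Subgroup.center ↥S ≃* P) : Nonempty (↥(S.map f) ≃* P) := by
  let φ : ↥S →* H := f.comp S.subtype
  have hmem : ∀ g : ↥S, g ∈ φ.ker ↔ g = 1 ∨ g = ⟨z, hz⟩ := fun g => by
    have h' : g ∈ φ.ker ↔ (g : O) = 1 ∨ (g : O) = z := hker g.1
    refine h'.trans ⟨fun h => h.imp (fun e' => Subtype.ext e') (fun e' => Subtype.ext e'), ?_⟩
    rintro (e' | e')
    · exact Or.inl (congrArg Subtype.val e')
    · exact Or.inr (congrArg Subtype.val e')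
  have h2 : Nat.card φ.ker = 2 := by
    rw [Nat.card_eq_two_iff]
    refine ⟨⟨1, one_mem _⟩, ⟨⟨z, hz⟩, (hmem _).2 (Or.inr rfl)⟩,
      fun e' => hz1 (congrArg (fun q => (q.1.1 : O)) e').symm, Set.eq_univ_of_forall ?_⟩
    rintro ⟨g, hg⟩
    rcases (hmem g).1 hg with rfl | rfl
    · exact Or.inl rfl
    · exact Or.inr rfl
  have hker' : φ.ker = Subgroup.center ↥S := by
    refine Subgroup.eq_of_le_of_card_ge (fun g hg => ?_) (by omega)
    rw [Subgroup.mem_center_iff]
    intro y
    rcases (hmem g).1 hg with rfl | rfl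
    · rw [mul_one, one_mul]
    · exact Subtype.ext (hc y.1).symm
  have hr : φ.range = S.map f := by rw [MonoidHom.range_comp, Subgroup.range_subtype]
  exact ⟨(MulEquiv.subgroupCongr hr.symm).trans
    (((QuotientGroup.quotientKerEquivRange φ).symm.trans (QuotientGroup.quotientMulEquivOfEq hker')).trans e)⟩

theorem image_equiv : Nonempty (↥((Omega (ZMod 3) ⇑qform).map act) ≃* PSU 4 UThreeThree.Nine 3) := by
  obtain ⟨e⟩ := Classical.LowRank.nonempty_POmega_minus_six (K := UThreeThree.Nine) (q := 3)
    (ZMod.card 3) card_nine 0 1 aniso3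
  rw [← coe_qform] at e
  set Om := Omega (ZMod 3) ⇑qform
  have hidx : Om.index = 4 := Orth.index_omega (by decide +kernel) qform_nondeg (by simp)
  have hcard : Nat.card Om = 6531840 := by
    have h := Om.card_mul_index
    rw [hidx, card_O6] at h
    omega
  have hZ : Nat.card (Subgroup.center Om) = 2 := by
    have h := Subgroup.card_eq_card_quotient_mul_card_subgroup (Subgroup.center Om)
    rw [hcard, show Nat.card (Om ⧸ Subgroup.center Om) = 3265920 from
      (Nat.card_congr e.toEquiv).trans card_PSU] at h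
    omega
  exact map_equiv_of_center act Om negO_mem negO_ne_one ker_act
    (fun y => app_inj fun x => by rw [app_mul, app_mul, app_negO, app_negO, app_neg]) hZ e

end Cfsg.Agent.Lib.M24Two74
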