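import Cfsg.Agent.Lib.M24Two74.Rows
import Cfsg.Agent.Lib.M24Two74.Model

/-!
Kernel checks on the permutations of the 504 fixed lanes: blocks, pair products, their commutator
form and their conjugates.
-/

set_option autoImplicit false
set_option maxRecDepth 100000

namespace Cfsg.Agent.Lib.M24Two74

/-- image of a position under member `m` -/
def rowImg (m i : ℕ) : ℕ := at9 (rows.getD m 0) i

/-- image of a position under the chosen product of two transpositions -/
def xImg (i : ℕ) : ℕ := at9 xRow i

/-- image of a position under generator `g` of the centraliser -/
def genImg (g i : ℕ) : ℕ := if g < 18 then rowImg g i else xImg i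

/-- image of a position under a product of members, rightmost first -/
def listImg (l : List ℕ) (i : ℕ) : ℕ := l.foldr rowImg i

/-- position of member `m` -/
def memPos (m : ℕ) : ℕ := 4 * (m / 3) + m % 3

/-- the two members of pair product `k` -/
def pairMem (k : ℕ) : List ℕ := [3 * (k / 2), 3 * (k / 2) + 1 + k % 2]

/-- image of a position under pair product `k` -/
def qImg (k i : ℕ) : ℕ := listImg (pairMem k) i

/-- the members of the ordered product of the pair products in a mask -/
def maskMem (m : ℕ) : List ℕ := ((List.range 12).filter fun k => m.testBit k).flatMap pairMem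

/-- parity of the common bits -/
def dot12 (a b : ℕ) : Bool :=
  (List.range 12).foldr (fun k r => xor (a.testBit k && b.testBit k) r) false

/-- both unordered pairs agree -/
def samePair (a b c d : ℕ) : Bool := (Nat.beq a c && Nat.beq b d) || (Nat.beq a d && Nat.beq b c)

theorem member_pos : (List.range 18).all (fun m =>
    Nat.beq (memberData.getD m (0, [])).1 (memPos m)) = true := by decide +kernel

theorem rows_blocks : (List.range 18).all (fun m => (List.range 504).all (fun i =>
    Nat.blt (rowImg m i) 504 &&
      cline (crefl (vcode (m / 3)) (vcode (i / 4))) (vcode (rowImg m i / 4)))) = true := by decide +kernel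

theorem x_blocks : (List.range 504).all (fun i => Nat.blt (xImg i) 504 &&
    cline (crefl (wData.getD 0 0) (vcode (i / 4))) (vcode (xImg i / 4))) = true := by decide +kernel

theorem pairs_blocks : (List.range 12).all (fun k => (List.range 504).all (fun i =>
    Nat.beq (qImg k i / 4) (i / 4))) = true := by decide +kernel

theorem gram_check : (List.range 12).all (fun j => (List.range 12).all (fun k =>
    if (gramData.getD j 0).testBit k then
      samePair (qImg j (4 * (k / 2))) (qImg j (4 * (k / 2) + 1 + k % 2))
        (4 * (k / 2) + 2 - k % 2) (4 * (k / 2) + 3)
    else samePair (qImg j (4 * (k / 2))) (qImg j (4 * (k / 2) + 1 + k % 2))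
        (4 * (k / 2)) (4 * (k / 2) + 1 + k % 2))) = true := by decide +kernel

theorem gram_nondeg : (List.range 4096).all (fun e => Nat.beq e 0 ||
    (List.range 12).any (fun j => dot12 (gramData.getD j 0) e)) = true := by decide +kernel

theorem dot12_xor (a e f : ℕ) : dot12 a (e ^^^ f) = xor (dot12 a e) (dot12 a f) := by
  unfold dot12
  induction List.range 12 with
  | nil => rfl
  | cons k L ih =>
    rw [List.foldr_cons, List.foldr_cons, List.foldr_cons, ih]
    generalize List.foldr _ false L = r
    generalize List.foldr _ false L = t
    rw [Nat.testBit_xor]
    cases a.testBit k <;> cases e.testBit k <;> cases f.testBit k <;> cases r <;> cases t <;> rfl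

theorem h_blocks : (List.range 504).all (fun i => Nat.beq (listImg hData i / 4) (i / 4)) = true := by
  decide +kernel

theorem h_cube : (List.range 504).all (fun i =>
    Nat.beq (listImg hData (listImg hData (listImg hData i))) i) = true := by decide +kernel

theorem h_ne : (List.range 504).any (fun i => !Nat.beq (listImg hData i) i) = true := by decide +kernel

theorem hData_lt : hData.all (fun m => Nat.blt m 18) = true ∧ hData.length % 2 = 0 := by
  decide +kernel

/-- conjugation check for one generator -/
def conjOK (g : ℕ) : Bool :=
  (List.range 12).all fun k => (List.range 504).all fun i =>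
    Nat.beq (genImg g (qImg k i)) (listImg (maskMem ((conjData.getD g []).getD k 0)) (genImg g i))

theorem conj_check0 : [0, 1, 2, 3, 4, 5, 6].all conjOK = true := by decide +kernel

theorem conj_check1 : [7, 8, 9, 10, 11, 12].all conjOK = true := by decide +kernel

theorem conj_check2 : [13, 14, 15, 16, 17, 18].all conjOK = true := by decide +kernel

theorem pairMem_lt : ∀ k < 12, ∀ m ∈ pairMem k, m < 18 := by decide

end Cfsg.Agent.Lib.M24Two74
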