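import Cfsg.Agent.Lib.M24Two74.MemberChecks0
import Cfsg.Agent.Lib.M24Two74.MemberChecks1
import Cfsg.Agent.Lib.CosetTable.Lanes.Fi24.Eval
import Cfsg.Agent.Lib.M24Two74.Perms
import Cfsg.Agent.Lib.Fischer5.Fi24Points
import Cfsg.Agent.Lib.Fischer3T25.SevenFixedCount
import Cfsg.Agent.Lib.ThreeTransp.ProductsTypes

/-!
The 504 transpositions commuting with a product of four commuting transpositions, their 126 blocks,
and the action of the centraliser on both.
-/

set_option autoImplicit false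
set_option maxRecDepth 100000

namespace Cfsg.Agent.Lib.M24Two74

open Cfsg
open Cfsg.Agent.Lib.CosetTable Cfsg.Agent.Lib.CosetTable.Lanes
open Cfsg.Agent.Lib.Fischer5
open Cfsg.Agent.Lib.ThreeTransp (mul_self inv_eq)
open Cfsg.Agent.Lib.ThreeTransp.Products
open Cfsg.Agent.Lib.Fischer3T25 (fixedMem)

universe u

variable {G : Type u} [Group G] [Finite G]

/-- Everything that is used about the group. -/
structure Setup (D : Set G) (ψ : Cfsg.Spor.Fi24 →* G) : Prop where
  frame : Fi24Points.Frame D ψ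
  ctx : M24Struct51.Ctx D
  inv : Fischer3T.Inv24 D
  noProd : ∀ k, 1 ≤ k → k ≤ 7 → NoProd D k

/-- lane of a position -/
def fLane (i : ℕ) : ℕ := fPts.getD i 0

theorem fLane_lt : ∀ {i : ℕ}, i < 504 → fLane i < 306936 := by
  have h : fPts.all (fun p => Nat.blt p 306936) = true := by decide +kernel
  intro i hi
  have hl : i < fPts.length := by rw [fPts_length]; exact hi
  rw [fLane, List.getD_eq_getElem _ _ hl]
  exact Nat.blt_eq.mp (List.all_eq_true.1 h _ (List.getElem_mem hl))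

theorem ne_of_noneEq {x : ℕ} : ∀ {l : List ℕ}, noneEq x l = true → x ∉ l
  | [], _ => by simp
  | y :: l, h => by
    simp only [noneEq, Bool.and_eq_true, Bool.not_eq_true'] at h
    have hne : x ≠ y := fun e => by rw [e] at h; simp at h
    simp [hne, ne_of_noneEq h.2]

theorem nodup_of_distinctB : ∀ {l : List ℕ}, distinctB l = true → l.Nodup
  | [], _ => List.nodup_nil
  | x :: l, h => by
    simp only [distinctB, Bool.and_eq_true] at h
    exact List.nodup_cons.2 ⟨ne_of_noneEq h.1, nodup_of_distinctB h.2⟩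

theorem fLane_inj {i j : ℕ} (hi : i < fPts.length) (hj : j < fPts.length)
    (h : fLane i = fLane j) : i = j := by
  rw [fLane, fLane, List.getD_eq_getElem _ _ hi, List.getD_eq_getElem _ _ hj] at h
  exact (List.Nodup.getElem_inj_iff (nodup_of_distinctB fPts_distinct)).1 h

theorem image_of_wordPt {w : List ℕ} (hw : Fi24Points.wordOK w = true) {i p : ℕ} (hi : i < 306936)
    (h : Fi24.wordPt w i = p) : Fi24Points.image w i = p := by
  have hi' : i < Fi24.sys.size := by rw [Fi24.size_eq]; exact hi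
  exact (Fi24.wordPt_eq w (Fi24Points.wordOK_iff.1 hw) i hi').1.symm.trans h

theorem image_of_rowOK {w : List ℕ} (hw : Fi24Points.wordOK w = true) {S : ℕ} (h : rowOK w S = true)
    {i : ℕ} (hi : i < 504) :
    at9 S i < 504 ∧ Fi24Points.image w (fLane i) = fLane (at9 S i) := by
  have e := (allB_iff _ _).1 h i (List.mem_range.2 hi)
  rw [moveOK, both_eq, Bool.and_eq_true] at e
  exact ⟨Nat.blt_eq.mp e.1, image_of_wordPt hw (fLane_lt hi) (Nat.eq_of_beq_eq_true e.2)⟩

/-- the transpositions commuting with the four-product -/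
noncomputable def mu (ψ : Cfsg.Spor.Fi24 →* G) (i : Fin 504) : G := Fi24Points.point ψ (fLane i.val)

/-- the four-product -/
noncomputable def z4 (ψ : Cfsg.Spor.Fi24 →* G) : G := Fi24Points.el ψ [0, 2, 4, 6]

/-- position of the member `k` of block `b` -/
def pos4 (b : Fin 126) (k : Fin 4) : Fin 504 := ⟨4 * b.val + k.val, by omega⟩

/-- block of a position -/
def blockOf (i : Fin 504) : Fin 126 := ⟨i.val / 4, by omega⟩

theorem pos4_blockOf (i : Fin 504) : pos4 (blockOf i) ⟨i.val % 4, by omega⟩ = i := by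
  refine Fin.ext ?_
  show 4 * (i.val / 4) + i.val % 4 = i.val
  omega

theorem blockOf_pos4 (b : Fin 126) (k : Fin 4) : blockOf (pos4 b k) = b := by
  refine Fin.ext ?_
  show (4 * b.val + k.val) / 4 = b.val
  omega

theorem pos4_inj {b c : Fin 126} {k l : Fin 4} (h : pos4 b k = pos4 c l) : b = c ∧ k = l := by
  have := congrArg Fin.val h
  simp only [pos4] at this
  constructor <;> refine Fin.ext ?_ <;> omega

/-- the four members of a block -/
noncomputable def blk (ψ : Cfsg.Spor.Fi24 →* G) (b : Fin 126) : List G :=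
  [mu ψ (pos4 b 0), mu ψ (pos4 b 1), mu ψ (pos4 b 2), mu ψ (pos4 b 3)]

theorem wordOK_z : Fi24Points.wordOK [0, 2, 4, 6] = true := rfl

theorem member_spec {m : ℕ} (hm : m < 18) :
    (memberData.getD m (0, [])).1 = memPos m ∧
      Fi24Points.image (memberData.getD m (0, [])).2 Fi24.base = fLane (memPos m) ∧
      rowOK (Fi24Points.mirror (memberData.getD m (0, [])).2) (rows.getD m 0) = true ∧
      Fi24Points.wordOK (memberData.getD m (0, [])).2 = true := by
  have hp := Nat.eq_of_beq_eq_true (List.all_eq_true.1 member_pos m (List.mem_range.2 hm))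
  have hok : memberOK m = true := by
    rcases (show m < 9 ∨ 9 ≤ m by omega) with h | h
    · exact (allB_iff _ _).1 members_check0 m (by simp; omega)
    · exact (allB_iff _ _).1 members_check1 m (by simp; omega)
  rw [memberOK, both_eq, Bool.and_eq_true] at hok
  have hw : ∀ m < 18, Fi24Points.wordOK (memberData.getD m (0, [])).2 = true := by decide +kernel
  refine ⟨hp, ?_, hok.2, hw m hm⟩
  rw [← hp]
  exact image_of_wordPt (hw m hm) Fi24Points.base_lt (Nat.eq_of_beq_eq_true hok.1)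

variable {D : Set G} {ψ : Cfsg.Spor.Fi24 →* G} (hS : Setup D ψ)
include hS

theorem mu_mem (i : Fin 504) : mu ψ i ∈ D := Fi24Points.point_mem hS.frame (fLane_lt i.isLt)

theorem mu_sq (i : Fin 504) : mu ψ i * mu ψ i = 1 := mul_self hS.frame.group.1 (mu_mem hS i)

theorem mu_inv (i : Fin 504) : (mu ψ i)⁻¹ = mu ψ i := inv_eq hS.frame.group.1 (mu_mem hS i)

theorem mu_inj : Function.Injective (mu ψ) := fun i j h => by
  have hi : i.val < fPts.length := by rw [fPts_length]; exact i.isLt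
  have hj : j.val < fPts.length := by rw [fPts_length]; exact j.isLt
  exact Fin.ext (fLane_inj hi hj
    (Fi24Points.point_inj hS.frame (fLane_lt i.isLt) (fLane_lt j.isLt) h))

theorem mu_commute (i : Fin 504) : Commute (mu ψ i) (z4 ψ) := by
  have e := image_of_wordPt wordOK_z (fLane_lt i.isLt) (Nat.eq_of_beq_eq_true
    ((allB_iff _ _).1 quad_check i.val (List.mem_range.2 i.isLt)))
  exact ((Fi24Points.commute_el_iff hS.frame wordOK_z (fLane_lt i.isLt)).2 e).symm

theorem mu_gen : ∀ k : Fin 4, mu ψ (pos4 0 k) = ψ (Fi24.gn (2 * k.val)) := by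
  have h : ∀ k : Fin 4, fLane (4 * 0 + k.val) = Fi24Points.genLane.getD (2 * k.val) 0 := by decide +kernel
  intro k
  rw [Fi24Points.gen_point (2 * k.val) (by omega), ← h k]
  rfl

theorem blk_zero : (blk ψ 0).prod = z4 ψ ∧ ∀ a ∈ blk ψ 0, ∀ b ∈ blk ψ 0, Commute a b := by
  have hc : ∀ k l : Fin 4, Commute (mu ψ (pos4 0 k)) (mu ψ (pos4 0 l)) := by
    intro k l
    rw [mu_gen hS, mu_gen hS]
    by_cases hkl : k = l
    · rw [hkl]
    · refine Commute.map (x := Fi24.gn (2 * k.val)) (y := Fi24.gn (2 * l.val)) (Fi24.gn_comm _ _ ?_) ψ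
      revert hkl
      revert k l
      decide
  refine ⟨?_, ?_⟩
  · simp only [blk, mu_gen hS, z4, Fi24Points.el, pw_cons, pw_nil, map_mul, List.prod_cons,
      List.prod_nil, map_one]
    rfl
  · simp only [blk, List.forall_mem_cons, List.not_mem_nil, false_implies, implies_true, and_true]
    exact ⟨⟨hc 0 0, hc 0 1, hc 0 2, hc 0 3⟩, ⟨hc 1 0, hc 1 1, hc 1 2, hc 1 3⟩,
      ⟨hc 2 0, hc 2 1, hc 2 2, hc 2 3⟩, ⟨hc 3 0, hc 3 1, hc 3 2, hc 3 3⟩⟩

/-- conjugation by a member on the fixed transpositions -/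
theorem member_conj {m : ℕ} (hm : m < 18) (i : Fin 504) :
    ∃ h : rowImg m i.val < 504,
      mu ψ ⟨memPos m, by unfold memPos; omega⟩ * mu ψ i * (mu ψ ⟨memPos m, by unfold memPos; omega⟩)⁻¹ =
        mu ψ ⟨rowImg m i.val, h⟩ := by
  obtain ⟨-, hb, hok, hw⟩ := member_spec hm
  obtain ⟨hlt, e⟩ := image_of_rowOK (Fi24Points.wordOK_mirror hw) hok i.isLt
  refine ⟨hlt, ?_⟩
  have hmu : mu ψ ⟨memPos m, by unfold memPos; omega⟩ =
      Fi24Points.el ψ (Fi24Points.mirror (memberData.getD m (0, [])).2) := by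
    rw [Fi24Points.el_mirror_eq_point hw, hb]
    rfl
  rw [hmu, mu, Fi24Points.conj_point (Fi24Points.wordOK_mirror hw) (fLane_lt i.isLt), e]
  rfl

omit hS in
theorem img_row {m : ℕ} (hm : m < 18) (i : Fin 504) (h : rowImg m i.val < 504) :
    img (rb ⟨m / 3, by omega⟩) (blockOf i) = blockOf ⟨rowImg m i.val, h⟩ := by
  have hok := List.all_eq_true.1 (List.all_eq_true.1 rows_blocks m (List.mem_range.2 hm)) i.val
    (List.mem_range.2 i.isLt)
  rw [Bool.and_eq_true] at hok
  exact img_refl _ hok.2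

omit hS in
theorem step_member {t a : Fin 126} {j : ℕ} (h : (t.val, a.val, j) ∈ blockSteps) :
    ∃ hj : j < 18, img (rb ⟨j / 3, by omega⟩) a = t := by
  have hok := List.all_eq_true.1 blockSteps_ok _ h
  simp only [Bool.and_eq_true, Nat.blt_eq] at hok
  obtain ⟨-, hl, -, -⟩ := step_data h
  exact ⟨hok.1.1.1.2, img_refl _ hl⟩

theorem blk_nodup (b : Fin 126) : (blk ψ b).Nodup := by
  have h : ∀ k l : Fin 4, mu ψ (pos4 b k) = mu ψ (pos4 b l) → k = l := fun k l e =>
    (pos4_inj (mu_inj hS e)).2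
  simp only [blk, List.nodup_cons, List.mem_cons, List.not_mem_nil, or_false, List.nodup_nil,
    and_true, not_or]
  refine ⟨⟨?_, ?_, ?_⟩, ⟨?_, ?_⟩, ?_, not_false⟩ <;> intro e <;> simpa using h _ _ e

omit hS in
theorem mem_blk {b : Fin 126} {x : G} : x ∈ blk ψ b ↔ ∃ k, x = mu ψ (pos4 b k) := by
  constructor
  · simp only [blk, List.mem_cons, List.not_mem_nil, or_false]
    rintro (rfl | rfl | rfl | rfl)
    exacts [⟨0, rfl⟩, ⟨1, rfl⟩, ⟨2, rfl⟩, ⟨3, rfl⟩]
  · rintro ⟨k, rfl⟩
    fin_cases k <;> simp [blk]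

theorem mem_blk_iff {b : Fin 126} {i : Fin 504} : mu ψ i ∈ blk ψ b ↔ blockOf i = b := by
  rw [mem_blk]
  constructor
  · rintro ⟨k, e⟩
    rw [mu_inj hS e, blockOf_pos4]
  · rintro rfl
    exact ⟨⟨i.val % 4, by omega⟩, by rw [pos4_blockOf]⟩

omit hS in
theorem blk_length (b : Fin 126) : (blk ψ b).length = 4 := rfl

/-- two commuting lists of the members of one block have the same product -/
theorem blk_perm {b : Fin 126} {l : List G} (hnd : l.Nodup) (hlen : l.length = 4)
    (hsub : ∀ x ∈ l, x ∈ blk ψ b) : l.Perm (blk ψ b) :=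
  (List.subperm_of_subset hnd hsub).perm_of_length_le (by rw [blk_length]; omega)

/-- every block is a commuting quadruple with product `z4` -/
theorem blk_spec (b : Fin 126) :
    (blk ψ b).prod = z4 ψ ∧ ∀ a ∈ blk ψ b, ∀ c ∈ blk ψ b, Commute a c := by
  induction b using block_induction with
  | h0 => exact blk_zero hS
  | hs t a j hmem ha =>
    obtain ⟨hj, himg⟩ := step_member hmem
    set g := mu ψ ⟨memPos j, by unfold memPos; omega⟩ with hg
    have hmaps : ∀ x ∈ (blk ψ a).map (fun x => g * x * g⁻¹), x ∈ blk ψ t := by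
      intro x hx
      obtain ⟨y, hy, rfl⟩ := List.mem_map.1 hx
      obtain ⟨k, rfl⟩ := mem_blk.1 hy
      obtain ⟨h, e⟩ := member_conj hS hj (pos4 a k)
      rw [hg, e, mem_blk_iff hS, ← img_row hj (pos4 a k) h, blockOf_pos4, himg]
    have hperm := blk_perm hS
      ((blk_nodup hS a).map (fun x y e => mul_left_cancel (mul_right_cancel e)))
      (by rw [List.length_map, blk_length]) hmaps
    have hcomm : ∀ x ∈ (blk ψ a).map (fun x => g * x * g⁻¹),
        ∀ y ∈ (blk ψ a).map (fun x => g * x * g⁻¹), Commute x y := by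
      intro x hx y hy
      obtain ⟨x, hx', rfl⟩ := List.mem_map.1 hx
      obtain ⟨y, hy', rfl⟩ := List.mem_map.1 hy
      exact (ThreeTransp.commute_conj_iff g).2 (ha.2 x hx' y hy')
    refine ⟨?_, fun x hx y hy => hcomm x (hperm.mem_iff.2 hx) y (hperm.mem_iff.2 hy)⟩
    rw [← hperm.prod_eq' (List.pairwise_of_forall_mem_list fun x hx y hy => hcomm x hx y hy)]
    rw [show (fun x => g * x * g⁻¹) = ⇑(MulAut.conj g) from rfl, ← map_list_prod, ha.1]
    show g * z4 ψ * g⁻¹ = z4 ψ
    rw [hg, (mu_commute hS _).eq, mul_inv_cancel_right]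

theorem commProd_z : Cfsg.Agent.Lib.M22Struct66.CommProd D 4 (z4 ψ) :=
  ⟨blk ψ 0, blk_nodup hS 0, rfl, fun a ha => by
    obtain ⟨k, rfl⟩ := mem_blk.1 ha
    exact mu_mem hS _, (blk_spec hS 0).2, (blk_spec hS 0).1⟩

theorem range_mu : Set.range (mu ψ) = fixedMem D (z4 ψ) := by
  refine Set.eq_of_subset_of_ncard_le ?_ ?_ (Set.toFinite _)
  · rintro _ ⟨i, rfl⟩
    exact ⟨mu_mem hS i, mu_commute hS i⟩
  · rw [Set.ncard_range_of_injective (mu_inj hS), Nat.card_fin]
    have hb := blk_spec hS 0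
    have hc : ∀ k l : Fin 4, Commute (mu ψ (pos4 0 k)) (mu ψ (pos4 0 l)) := fun k l =>
      hb.2 _ (mem_blk.2 ⟨k, rfl⟩) _ (mem_blk.2 ⟨l, rfl⟩)
    have hn : ∀ k l : Fin 4, k ≠ l → mu ψ (pos4 0 k) ≠ mu ψ (pos4 0 l) := fun k l h e =>
      h (pos4_inj (mu_inj hS e)).2
    have hm := fun k => mu_mem hS (pos4 0 k)
    refine le_of_eq ?_
    rw [show z4 ψ = mu ψ (pos4 0 0) * mu ψ (pos4 0 1) * mu ψ (pos4 0 2) * mu ψ (pos4 0 3) by
      rw [← hb.1]; simp [blk, mul_assoc]]
    exact Fischer3T25.ncard_fixedMem_four hS.frame.group hS.ctx hS.inv (hm 0)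
      ⟨hm 1, hn 1 0 (by decide), hc 0 1⟩
      ⟨⟨hm 2, hn 2 0 (by decide), hc 0 2⟩, hm 2, hn 2 1 (by decide), hc 1 2⟩
      ⟨⟨⟨hm 3, hn 3 0 (by decide), hc 0 3⟩, hm 3, hn 3 1 (by decide), hc 1 3⟩, hm 3, hn 3 2 (by decide), hc 2 3⟩

/-- uniqueness of the quadruple through a member -/
theorem quad_unique {l : List G} (hnd : l.Nodup) (hlen : l.length = 4) (hmem : ∀ a ∈ l, a ∈ D)
    (hcomm : ∀ a ∈ l, ∀ b ∈ l, Commute a b) (hprod : l.prod = z4 ψ) :
    ∃ b, l.Perm (blk ψ b) := by
  classical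
  obtain ⟨a, r, rfl⟩ := List.exists_cons_of_length_pos (by omega : 0 < l.length)
  have hca : Commute a (z4 ψ) :=
    hprod ▸ Commute.list_prod_right _ _ (hcomm a List.mem_cons_self)
  obtain ⟨i, hi⟩ : a ∈ Set.range (mu ψ) := by
    rw [range_mu hS]; exact ⟨hmem a List.mem_cons_self, hca⟩
  set b := blockOf i
  have hab : a ∈ blk ψ b := hi ▸ (mem_blk_iff hS).2 rfl
  have hpm := List.perm_cons_erase hab
  have hbs := blk_spec hS b
  have hprod' : ((blk ψ b).erase a).prod = r.prod := by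
    have e := hpm.prod_eq' (List.pairwise_of_forall_mem_list fun x hx y hy => hbs.2 x hx y hy)
    rw [List.prod_cons, hbs.1, ← hprod, List.prod_cons] at e
    exact (mul_left_cancel e).symm
  have hsub : ∀ x ∈ (blk ψ b).erase a, x ∈ blk ψ b := fun x hx => List.mem_of_mem_erase hx
  have hnd' : r.Nodup := (List.nodup_cons.1 hnd).2
  have hlen' : r.length = 3 := by simpa using hlen
  have hiff := ThreeTransp.Products.factorization_unique hS.frame.group.1 hS.frame.group.2.1 3 le_rfl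
    (fun k h1 h2 => hS.noProd (2 * k) (by omega) (by omega)) r ((blk ψ b).erase a) hnd'
    ((blk_nodup hS b).erase a) hlen' (by rw [List.length_erase_of_mem hab, blk_length])
    (fun x hx => hmem x (List.mem_cons_of_mem _ hx))
    (fun x hx => by obtain ⟨k, rfl⟩ := mem_blk.1 (hsub x hx); exact mu_mem hS _)
    (fun x hx y hy => hcomm x (List.mem_cons_of_mem _ hx) y (List.mem_cons_of_mem _ hy))
    (fun x hx y hy => hbs.2 x (hsub x hx) y (hsub y hy)) hprod'.symm
  refine ⟨b, blk_perm hS hnd hlen fun x hx => ?_⟩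
  rcases List.mem_cons.1 hx with rfl | hx
  · exact hab
  · exact hsub x ((hiff x).1 hx)

end Cfsg.Agent.Lib.M24Two74
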