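import Cfsg.Agent.Lib.M24Two74.Blocks

/-!
The order of the centraliser of a four-product from the number of ordered commuting quadruples.
-/

set_option autoImplicit false
set_option maxRecDepth 100000

namespace Cfsg.Agent.Lib.M24Two74

open Cfsg
open Cfsg.Agent.Lib.Fischer3T (com3)
open Cfsg.Agent.Lib.M22Struct66 (CommProd nb com2)

universe u

variable {G : Type u} [Group G] [Finite G]

/-- the patterns of an ordered quadruple inside a block -/
def pats : Finset (Fin 4 × Fin 4 × Fin 4 × Fin 4) :=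
  Finset.univ.filter fun p => [p.1, p.2.1, p.2.2.1, p.2.2.2].Nodup

theorem pats_card : pats.card = 24 := by decide +kernel

/-- a nested sum of constant terms -/
theorem card_quad_fibres {α : Type*} [DecidableEq α] (A : Finset α) (B : α → Finset α) (C : α → α → Finset α)
    (E : α → α → α → Finset α) (n₂ n₃ n₄ : ℕ) (hB : ∀ a ∈ A, (B a).card = n₂)
    (hC : ∀ a ∈ A, ∀ b ∈ B a, (C a b).card = n₃)
    (hE : ∀ a ∈ A, ∀ b ∈ B a, ∀ c ∈ C a b, (E a b c).card = n₄) :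
    (A.sigma fun a => (B a).sigma fun b => (C a b).sigma fun c => E a b c).card =
      A.card * (n₂ * (n₃ * n₄)) := by
  rw [Finset.card_sigma, Finset.sum_const_nat (m := n₂ * (n₃ * n₄))]
  intro a ha
  rw [Finset.card_sigma, Finset.sum_const_nat (m := n₃ * n₄), hB a ha]
  intro b hb
  rw [Finset.card_sigma, Finset.sum_const_nat (m := n₄), hC a ha b hb]
  intro c hc
  exact hE a ha b hb c hc

variable {D : Set G} {ψ : Cfsg.Spor.Fi24 →* G} (hS : Setup D ψ)
include hS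

theorem card_centralizer_le :
    Nat.card (Subgroup.centralizer ({z4 ψ} : Set G)) ≤ 321052999680 := by
  classical
  haveI : Fintype G := Fintype.ofFinite G
  let T := D.toFinset.sigma fun a => (nb D a).toFinset.sigma fun b =>
    (com2 D a b).toFinset.sigma fun c => (com3 D a b c).toFinset
  have hT : T.card = 306936 * (31671 * (3510 * 693)) := by
    rw [card_quad_fibres _ _ _ _ 31671 3510 693]
    · rw [← Set.ncard_eq_toFinset_card', hS.ctx.ncard_D]
    · intro a ha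
      rw [← Set.ncard_eq_toFinset_card', hS.ctx.ncard_nb (Set.mem_toFinset.1 ha)]
    · intro a ha b hb
      rw [← Set.ncard_eq_toFinset_card',
        hS.ctx.ncard_com2_commute (Set.mem_toFinset.1 ha) (Set.mem_toFinset.1 hb)]
    · intro a ha b hb c hc
      rw [← Set.ncard_eq_toFinset_card', hS.ctx.ncard_com3_commute (Set.mem_toFinset.1 ha)
        (Set.mem_toFinset.1 hb) (Set.mem_toFinset.1 hc)]
  let pr : (Σ _ : G, Σ _ : G, Σ _ : G, G) → G := fun t => t.1 * t.2.1 * t.2.2.1 * t.2.2.2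
  have hlist : ∀ t ∈ T, let l := [t.1, t.2.1, t.2.2.1, t.2.2.2]
      l.Nodup ∧ (∀ u ∈ l, u ∈ D) ∧ (∀ u ∈ l, ∀ v ∈ l, Commute u v) ∧ l.prod = pr t := by
    rintro ⟨a, b, c, x⟩ ht
    simp only [T, Finset.mem_sigma, Set.mem_toFinset] at ht
    obtain ⟨ha, ⟨hb, hba, hab⟩, ⟨⟨hc, hca, hac⟩, -, hcb, hbc⟩, ⟨⟨hx, hxa, hax⟩, -, hxb, hbx⟩, -, hxc, hcx⟩ := ht
    refine ⟨?_, ?_, ?_, by simp [pr, mul_assoc]⟩
    · simp [hba.symm, hca.symm, hcb.symm, hxa.symm, hxb.symm, hxc.symm]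
    · simp [ha, hb, hc, hx]
    · simp [hab, hac, hbc, hax, hbx, hcx, hab.symm, hac.symm, hbc.symm, hax.symm, hbx.symm, hcx.symm]
  have hmem : ∀ t : (Σ _ : G, Σ _ : G, Σ _ : G, G), ∀ g : G, t ∈ T →
      (⟨g * t.1 * g⁻¹, g * t.2.1 * g⁻¹, g * t.2.2.1 * g⁻¹, g * t.2.2.2 * g⁻¹⟩ :
        Σ _ : G, Σ _ : G, Σ _ : G, G) ∈ T := by
    rintro ⟨a, b, c, x⟩ g ht
    simp only [T, Finset.mem_sigma, Set.mem_toFinset] at ht ⊢
    have hnb : ∀ p q : G, q ∈ nb D p → g * q * g⁻¹ ∈ nb D (g * p * g⁻¹) := fun p q h =>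
      ⟨hS.ctx.conj g q h.1, fun e => h.2.1 (mul_left_cancel (mul_right_cancel e)),
        (ThreeTransp.commute_conj_iff g).2 h.2.2⟩
    exact ⟨hS.ctx.conj g a ht.1, hnb _ _ ht.2.1, ⟨hnb _ _ ht.2.2.1.1, hnb _ _ ht.2.2.1.2⟩,
      ⟨⟨hnb _ _ ht.2.2.2.1.1, hnb _ _ ht.2.2.2.1.2⟩, hnb _ _ ht.2.2.2.2⟩⟩
  set cls := (MulAction.orbit (ConjAct G) (z4 ψ)).toFinset with hcls
  have hmaps : ∀ t ∈ T, pr t ∈ cls := by
    intro t ht
    obtain ⟨h1, h2, h3, h4⟩ := hlist t ht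
    rw [hcls, Set.mem_toFinset, ConjAct.mem_orbit_conjAct]
    exact hS.inv.commProd_isConj 4 (by norm_num) le_rfl _ _ ⟨_, h1, rfl, h2, h3, h4⟩ (commProd_z hS)
  have hbase : (T.filter fun t => pr t = z4 ψ).card ≤ 3024 := by
    have hsub : (T.filter fun t => pr t = z4 ψ) ⊆ ((Finset.univ : Finset (Fin 126)) ×ˢ pats).image
        (fun q => ⟨mu ψ (pos4 q.1 q.2.1), mu ψ (pos4 q.1 q.2.2.1), mu ψ (pos4 q.1 q.2.2.2.1),
          mu ψ (pos4 q.1 q.2.2.2.2)⟩) := by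
      intro t ht
      obtain ⟨ht, hpt⟩ := Finset.mem_filter.1 ht
      obtain ⟨h1, h2, h3, h4⟩ := hlist t ht
      obtain ⟨b, hb⟩ := quad_unique hS h1 rfl h2 h3 (h4.trans hpt)
      have hk : ∀ u ∈ [t.1, t.2.1, t.2.2.1, t.2.2.2], ∃ k, u = mu ψ (pos4 b k) := fun u hu =>
        mem_blk.1 (hb.mem_iff.1 hu)
      obtain ⟨k1, e1⟩ := hk t.1 (by simp)
      obtain ⟨k2, e2⟩ := hk t.2.1 (by simp)
      obtain ⟨k3, e3⟩ := hk t.2.2.1 (by simp)
      obtain ⟨k4, e4⟩ := hk t.2.2.2 (by simp)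
      refine Finset.mem_image.2 ⟨(b, k1, k2, k3, k4), Finset.mem_product.2 ⟨Finset.mem_univ _, ?_⟩, ?_⟩
      · refine Finset.mem_filter.2 ⟨Finset.mem_univ _, ?_⟩
        refine List.Nodup.of_map (fun k => mu ψ (pos4 b k)) ?_
        simpa [← e1, ← e2, ← e3, ← e4] using h1
      · obtain ⟨a, b', c, x⟩ := t
        simp only at e1 e2 e3 e4
        subst e1 e2 e3 e4
        rfl
    refine (Finset.card_le_card hsub).trans (Finset.card_image_le.trans ?_)
    rw [Finset.card_product, Finset.card_univ, Fintype.card_fin, pats_card]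
  have hfib : ∀ y ∈ cls, (T.filter fun t => pr t = y).card ≤ 3024 := by
    intro y hy
    rw [hcls, Set.mem_toFinset, ConjAct.mem_orbit_conjAct, isConj_iff] at hy
    obtain ⟨g, hg⟩ := hy
    refine le_trans (Finset.card_le_card_of_injOn
      (fun t => ⟨g * t.1 * g⁻¹, g * t.2.1 * g⁻¹, g * t.2.2.1 * g⁻¹, g * t.2.2.2 * g⁻¹⟩) ?_ ?_) hbase
    · intro t ht
      obtain ⟨ht, hpt⟩ := Finset.mem_filter.1 ht
      refine Finset.mem_filter.2 ⟨hmem t g ht, ?_⟩
      rw [← hg, ← hpt]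
      simp [pr, mul_assoc]
    · rintro ⟨a, b, c, x⟩ - ⟨a', b', c', x'⟩ - e
      have hc : ∀ {p q : G}, g * p * g⁻¹ = g * q * g⁻¹ → p = q := fun h =>
        mul_left_cancel (mul_right_cancel h)
      simp only [Sigma.mk.injEq, heq_eq_eq] at e ⊢
      exact ⟨hc e.1, hc e.2.1, hc e.2.2.1, hc e.2.2.2⟩
  have hle : T.card ≤ 3024 * cls.card :=
    Finset.card_le_mul_card_image_of_maps_to hmaps 3024 hfib
  rw [hT, hcls, ← Set.ncard_eq_toFinset_card', ← Nat.card_coe_set_eq] at hle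
  have horb : Nat.card (MulAction.orbit (ConjAct G) (z4 ψ)) *
      Nat.card (Subgroup.centralizer ({z4 ψ} : Set G)) = Nat.card G := by
    rw [Subgroup.nat_card_centralizer_nat_card_stabilizer, ← Nat.card_prod,
      Nat.card_congr (MulAction.orbitProdStabilizerEquivGroup (ConjAct G) (z4 ψ))]
    rfl
  rw [hS.ctx.card_G] at horb
  set n := Nat.card (MulAction.orbit (ConjAct G) (z4 ψ))
  set c := Nat.card (Subgroup.centralizer ({z4 ψ} : Set G))
  have h := Nat.mul_le_mul_right c hle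
  rw [mul_assoc 3024, horb] at h
  norm_num at h
  omega

end Cfsg.Agent.Lib.M24Two74
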