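import Cfsg.Agent.Lib.Fischer3T30.Unique.Main
import Cfsg.Agent.Lib.Fischer3T30.Facts24Iso
import Cfsg.Agent.Lib.Fischer3T98.Exist24
import Cfsg.Agent.Lib.Fischer3T22.Main

/-!
A group of type M(24) is the presented Fi24, with the first generator a transposition.
-/

set_option autoImplicit false

namespace Cfsg.Agent.Lib.M24Two74

open Cfsg
open Cfsg.Agent.Lib.CosetTable.Lanes

/-- the presented group carried onto a group of type M(24) -/
theorem exists_iso_fi24 {G : Type*} [Group G] [Finite G] {D : Set G} (hD : IsThreeTranspositionGroup D)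
    (hprim : IsPrimitiveUnderConj D) (h24 : IsOfTypeM24 G D) {d : G} (hd : d ∈ D) :
    ∃ e : Cfsg.Spor.Fi24 ≃* G, e (Fi24.gn 0) ∈ D := by
  haveI := Fi24.finite_fi24
  obtain ⟨hset, -, hgen⟩ := Fischer3T98.Fi24.cls_isClass
  have hD₁ : IsThreeTranspositionGroup Fischer3T98.Fi24.cls :=
    ⟨hset, fun g x hx => IsConj.trans hx (isConj_iff.2 ⟨g, rfl⟩), hgen⟩
  have hp₁ := Fischer3T98.Fi24.primitive
  have ht₁ := Fischer3T98.Fi24.isOfTypeM24
  have hd₁ : Fi24.gn 0 ∈ Fischer3T98.Fi24.cls := mem_conjugatesOf_self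
  have hX₁ := M24Struct51.ctx_of_m24 hD₁ hp₁ ht₁
  have hX₂ := M24Struct51.ctx_of_m24 hD hprim h24
  obtain ⟨e, he⟩ := Fischer3T30.Unique.exists_iso_m24 hX₁
    (Fischer3T30.facts24 hD₁ hp₁ ht₁).notMem_layer
    hX₂ (Fischer3T30.facts24 hD hprim h24).notMem_layer hd₁ hd
    (Fischer3T22.exists_equiv_m23 (M23Struct19.quot_group hD₁ hX₁.good hd₁) (hX₁.prim_down _ hd₁)
      (hX₁.type_down _ hd₁) (M23Struct19.quot_group hD hX₂.good hd) (hX₂.prim_down d hd)
      (hX₂.type_down d hd))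
  exact ⟨e, he ▸ ⟨_, hd₁, rfl⟩⟩

end Cfsg.Agent.Lib.M24Two74
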