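import Cfsg.Agent.Lib.M24Two74.Struct
import Cfsg.Agent.Lib.CharP.Fitting
import Cfsg.Agent.Lib.PSolvable.Core
import Cfsg.Agent.Lib.LargeES.Heisenberg
import Cfsg.Agent.S0283

/-!
The centraliser of a four-product in the derived group of a group of type M(24).
-/

set_option autoImplicit false
set_option maxRecDepth 100000

namespace Cfsg.Agent.Lib.M24Two74

open Cfsg
open scoped commutatorElement

universe u

variable {G : Type u} [Group G] [Finite G] {D : Set G} {ψ : Cfsg.Spor.Fi24 →* G} (hS : Setup D ψ)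

/-- the statement for the centraliser in the derived group -/
def Shape (C : Type u) [Group C] : Prop :=
  ∃ (Q : Subgroup C) (_ : Q.Normal), Cfsg.generalizedFittingSubgroup C = Q ∧
    Cfsg.IsExtraspecial 2 ↥Q ∧ Nat.card Q = 2 ^ 13 ∧
    ∃ (N M : Subgroup C) (_ : N.Normal) (_ : M.Normal), Q ≤ N ∧ N ≤ M ∧
      Nat.card N = 3 * Nat.card Q ∧
      (∃ (K : Type) (_ : Field K) (_ : Fintype K), Fintype.card K = 9 ∧
        Nonempty (↥M ⧸ N.subgroupOf M ≃* Cfsg.PSU 4 K 3)) ∧ M.index = 2

/-- the image of the simple section -/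
noncomputable def Sact : Subgroup (Equiv.Perm (Fin 126)) := (Omega (ZMod 3) ⇑qform).map act

theorem Sact_normalised {y s : Equiv.Perm (Fin 126)} (hy : y ∈ act.range) (hs : s ∈ Sact) :
    y * s * y⁻¹ ∈ Sact := by
  obtain ⟨g, rfl⟩ := hy
  obtain ⟨t, ht, rfl⟩ := hs
  exact ⟨g * t * g⁻¹, (inferInstance : (Omega (ZMod 3) ⇑qform).Normal).conj_mem t ht g,
    by rw [map_mul, map_mul, map_inv]⟩

theorem card_Sact : Nat.card Sact = 3265920 := by
  obtain ⟨e⟩ := image_equiv
  exact (Nat.card_congr e.toEquiv).trans card_PSU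

theorem Sact_le_range : Sact ≤ act.range := Subgroup.map_le_range _ _

/-- A two-subgroup normalised by the whole group and inside it is trivial when of order at most
`4096`: it meets the simple section trivially. -/
theorem eq_bot_of_normalised {R : Subgroup (Equiv.Perm (Fin 126))} (hR : IsPGroup 2 R)
    (hle : R ≤ act.range) (hn : ∀ y ∈ act.range, ∀ r ∈ R, y * r * y⁻¹ ∈ R)
    (hcard : Nat.card ↥(R ⊔ Sact) ≤ 6531840) : R = ⊥ := by
  haveI hsimp : IsSimpleGroup ↥Sact := by
    obtain ⟨e⟩ := image_equiv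
    haveI : IsSimpleGroup (PSU 4 UThreeThree.Nine 3) :=
      S0283.result card_nine 4 (by norm_num) (by norm_num)
    haveI : Nontrivial ↥Sact := e.toEquiv.nontrivial
    exact IsSimpleGroup.isSimpleGroup_of_surjective e.symm.toMonoidHom e.symm.surjective
  have hinf : R ⊓ Sact = ⊥ := by
    have hN : (R.subgroupOf Sact).Normal := ⟨fun s hs g => by
      rw [Subgroup.mem_subgroupOf] at hs ⊢
      exact hn _ (Sact_le_range g.2) _ hs⟩
    rcases hN.eq_bot_or_eq_top with h | h
    · rw [eq_bot_iff]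
      intro x hx
      have : (⟨x, hx.2⟩ : ↥Sact) ∈ R.subgroupOf Sact := hx.1
      rw [h, Subgroup.mem_bot] at this
      exact congrArg Subtype.val this
    · exfalso
      rw [Subgroup.subgroupOf_eq_top] at h
      have : Fact (Nat.Prime 2) := ⟨Nat.prime_two⟩
      obtain ⟨n, hn'⟩ := IsPGroup.iff_card.1 (hR.to_le h)
      rw [card_Sact] at hn'
      have h3 : 3 ∣ (2 : ℕ) ^ n := hn' ▸ (by norm_num)
      exact absurd (Nat.Prime.dvd_of_dvd_pow Nat.prime_three h3) (by norm_num)
  have hnorm : R ≤ Subgroup.normalizer (Sact : Set (Equiv.Perm (Fin 126))) := fun r hr => by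
    rw [Subgroup.mem_normalizer_iff]
    refine fun s => ⟨fun hs => Sact_normalised (hle hr) hs, fun hs => ?_⟩
    have := Sact_normalised (act.range.inv_mem (hle hr)) hs
    simpa [mul_assoc] using this
  have hc : Nat.card R ≤ 2 := by
    have h := Nat.card_le_card_of_injective
      (fun p : ↥R × ↥Sact => (⟨p.1.1 * p.2.1, mul_mem (Subgroup.mem_sup_left p.1.2)
        (Subgroup.mem_sup_right p.2.2)⟩ : ↥(R ⊔ Sact))) (fun p q e => by
        have e' : p.1.1 * p.2.1 = q.1.1 * q.2.1 := congrArg Subtype.val e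
        have hk : q.1.1⁻¹ * p.1.1 = q.2.1 * p.2.1⁻¹ := by
          rw [eq_mul_inv_iff_mul_eq, mul_assoc, e', inv_mul_cancel_left]
        have hm : q.1.1⁻¹ * p.1.1 ∈ R ⊓ Sact :=
          Subgroup.mem_inf.2 ⟨mul_mem (inv_mem q.1.2) p.1.2, hk ▸ mul_mem q.2.2 (inv_mem p.2.2)⟩
        rw [hinf, Subgroup.mem_bot] at hm
        have h1 : p.1 = q.1 := Subtype.ext (inv_mul_eq_one.1 hm).symm
        rw [hm, eq_comm, mul_inv_eq_one] at hk
        exact Prod.ext h1 (Subtype.ext hk.symm))
    rw [Nat.card_prod, card_Sact] at h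
    omega
  rw [eq_bot_iff]
  intro r hr
  obtain ⟨g, rfl⟩ := hle hr
  refine Subgroup.mem_bot.2 (eq_one_of_central fun b => ?_)
  by_cases h1 : act g = 1
  · rw [h1]; exact Commute.one_left _
  have hb := hn (act (rb b)) ⟨_, rfl⟩ _ hr
  have heq : act (rb b) * act g * (act (rb b))⁻¹ = act g := by
    by_contra hne
    have hne1 : act (rb b) * act g * (act (rb b))⁻¹ ≠ 1 := fun e => h1 (conj_eq_one_iff.1 e)
    have : 3 ≤ Nat.card R := by
      refine le_trans (le_of_eq ?_) (Nat.card_le_card_of_injective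
        (fun i : Fin 3 => ([(⟨1, one_mem _⟩ : ↥R), ⟨_, hr⟩, ⟨_, hb⟩].get i)) ?_)
      · simp
      · intro i j e
        have e' := congrArg Subtype.val e
        fin_cases i <;> fin_cases j <;> simp at e' ⊢ <;>
          first
            | exact h1 e' | exact h1 e'.symm | exact hne1 e' | exact hne1 e'.symm
            | exact hne e' | exact hne e'.symm
    omega
  exact (mul_inv_eq_iff_eq_mul.1 heq).symm

section Derived

variable (ε : G →* ℤˣ) (hε : ∀ d ∈ D, ε d = -1)

/-- the sign on the centraliser -/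
noncomputable def sgnC : ↥(Zc ψ) →* ℤˣ := ε.comp (Zc ψ).subtype

include hε in
theorem sgn_listZ : ∀ {l : List ℕ}, (∀ m ∈ l, m < 18) → sgnC ε (listZ hS l) = (-1) ^ l.length
  | [], _ => by simp [listZ]
  | m :: l, h => by
    rw [show listZ hS (m :: l) = memZ hS m * listZ hS l from rfl, map_mul,
      sgn_listZ (fun a ha => h a (List.mem_cons_of_mem _ ha)), List.length_cons, pow_succ']
    congr 1
    rw [memZ, dif_pos (h m List.mem_cons_self)]
    exact hε _ (mu_mem hS _)

include hS hε in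
theorem sgn_zZ : sgnC ε (zZ : ↥(Zc ψ)) = 1 := by
  rw [← mZ_prod hS 0, map_mul, map_mul, map_mul]
  simp only [sgnC, MonoidHom.comp_apply, Subgroup.coe_subtype, mZ, hε _ (mu_mem hS _)]
  norm_num

include hε in
theorem K0_le_sgn : K0 hS ≤ (sgnC (ψ := ψ) ε).ker := by
  rw [K0, Subgroup.closure_le, Set.union_subset_iff, Set.singleton_subset_iff]
  refine ⟨?_, ?_⟩
  · show Qz hS ≤ _
    rw [Qz, Subgroup.closure_le]
    rintro x (rfl | ⟨k, hk, rfl⟩) <;> rw [SetLike.mem_coe, MonoidHom.mem_ker]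
    · exact sgn_zZ hS ε hε
    · rw [qZ, sgn_listZ hS ε hε (fun m hm => pairMem_lt k hk m hm)]
      simp [pairMem]
  · rw [SetLike.mem_coe, MonoidHom.mem_ker, hZ, sgn_listZ hS ε hε hData_mem]
    exact Even.neg_one_pow (Nat.even_iff.2 hData_lt.2)

include hS hε in
/-- The structure of the centraliser. -/
theorem shape_of_ker (C : Subgroup G) (hC : C = ε.ker ⊓ Zc ψ) : Shape ↥C := by
  classical
  obtain ⟨-, hcardZ, hrange, hker, hK⟩ := orders hS
  have hle : C ≤ Zc ψ := hC ▸ inf_le_right
  let ι : ↥C →* ↥(Zc ψ) := Subgroup.inclusion hle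
  have hι : Function.Injective ι := Subgroup.inclusion_injective hle
  have hιr : ι.range = (sgnC (ψ := ψ) ε).ker := by
    ext g
    constructor
    · rintro ⟨c, rfl⟩
      have := c.2
      simp only [hC, Subgroup.mem_inf, MonoidHom.mem_ker] at this
      exact this.1
    · intro hg
      have hg' : (g : G) ∈ C := by rw [hC]; exact ⟨hg, g.2⟩
      exact ⟨⟨g, hg'⟩, Subtype.ext rfl⟩
  have hsurj : Function.Surjective (sgnC (ψ := ψ) ε) := fun u => by
    rcases Int.units_eq_one_or u with rfl | rfl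
    · exact ⟨1, map_one _⟩
    · exact ⟨mZ hS 0, hε _ (mu_mem hS 0)⟩
  have hkerS : Nat.card (sgnC (ψ := ψ) ε).ker = 160526499840 := by
    have h := Subgroup.card_eq_card_quotient_mul_card_subgroup (sgnC (ψ := ψ) ε).ker
    rw [Nat.card_congr (QuotientGroup.quotientKerEquivOfSurjective _ hsurj).toEquiv, hcardZ,
      show Nat.card ℤˣ = 2 by rw [Nat.card_eq_fintype_card]; rfl] at h
    omega
  have hcardC : Nat.card ↥C = 160526499840 := by
    rw [← hkerS, ← hιr]
    exact Nat.card_congr (Equiv.ofInjective ι hι)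
  have hK0C : K0 hS ≤ ι.range := hιr ▸ K0_le_sgn hS ε hε
  have hQC : Qz hS ≤ ι.range := (Qz_le_K0 hS).trans hK0C
  -- the subgroups
  set Q := (Qz hS).comap ι with hQdef
  haveI hQn : Q.Normal := (Qz_normal hS).comap ι
  have hQcard : Nat.card Q = 8192 := by
    rw [← card_Qz hS, ← Subgroup.card_map_of_injective hι, hQdef, Subgroup.map_comap_eq_self hQC]
  set f : ↥C →* Equiv.Perm (Fin 126) := (rho hS).comp ι with hfdef
  have hfker : f.ker = (K0 hS).comap ι := by
    rw [hfdef, ← MonoidHom.comap_ker, hker]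
  have hNcard : Nat.card f.ker = 24576 := by
    rw [← hK, ← Subgroup.card_map_of_injective hι, hfker, Subgroup.map_comap_eq_self hK0C]
  have hfrange : Nat.card f.range = 6531840 := by
    have h := Subgroup.card_eq_card_quotient_mul_card_subgroup f.ker
    rw [Nat.card_congr (QuotientGroup.quotientKerEquivRange f).toEquiv, hcardC, hNcard] at h
    omega
  have hfle : f.range ≤ act.range := by
    rintro _ ⟨c, rfl⟩
    rw [← hrange]
    exact ⟨ι c, rfl⟩
  have hSle : Sact ≤ f.range := by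
    have h : commutator O6 ≤ f.range.comap act := by
      rw [commutator_def, Subgroup.commutator_le]
      intro a _ b _
      obtain ⟨g, hg⟩ : act a ∈ (rho hS).range := hrange ▸ ⟨a, rfl⟩
      obtain ⟨g', hg'⟩ : act b ∈ (rho hS).range := hrange ▸ ⟨b, rfl⟩
      obtain ⟨c, hc⟩ : ⁅g, g'⁆ ∈ ι.range := by
        rw [hιr, MonoidHom.mem_ker, map_commutatorElement, commutatorElement_eq_one_iff_mul_comm,
          mul_comm]
      exact ⟨c, by rw [hfdef, MonoidHom.comp_apply, hc, map_commutatorElement, hg, hg',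
        map_commutatorElement]⟩
    rintro _ ⟨t, ht, rfl⟩
    exact h ht
  set M := Sact.comap f with hMdef
  have hMn : M.Normal := ⟨fun c hc g => by
    rw [hMdef, Subgroup.mem_comap] at hc ⊢
    rw [map_mul, map_mul, map_inv]
    exact Sact_normalised (hfle ⟨g, rfl⟩) hc⟩
  have hNM : f.ker ≤ M := fun c hc => by
    rw [hMdef, Subgroup.mem_comap, MonoidHom.mem_ker.1 hc]
    exact one_mem _
  let φ : ↥M →* ↥Sact := (f.comp M.subtype).codRestrict Sact fun c => c.2
  have hφ : Function.Surjective φ := fun s => by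
    obtain ⟨c, hc⟩ := hSle s.2
    exact ⟨⟨c, by rw [hMdef, Subgroup.mem_comap, hc]; exact s.2⟩, Subtype.ext hc⟩
  have hφker : φ.ker = f.ker.subgroupOf M := by
    ext c
    rw [MonoidHom.mem_ker, Subgroup.mem_subgroupOf, MonoidHom.mem_ker, Subtype.ext_iff]
    rfl
  obtain ⟨eS⟩ := image_equiv
  have eMN : ↥M ⧸ f.ker.subgroupOf M ≃* PSU 4 UThreeThree.Nine 3 :=
    ((QuotientGroup.quotientMulEquivOfEq hφker.symm).trans
      (QuotientGroup.quotientKerEquivOfSurjective φ hφ)).trans eS
  have hMidx : M.index = 2 := by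
    have h := Subgroup.card_eq_card_quotient_mul_card_subgroup (f.ker.subgroupOf M)
    rw [Nat.card_congr eMN.toEquiv, card_PSU,
      Nat.card_congr (Subgroup.subgroupOfEquivOfLe hNM).toEquiv, hNcard] at h
    have h2 := M.card_mul_index
    rw [h, hcardC] at h2
    omega
  -- the two-core
  have hQ2 : IsPGroup 2 Q := IsPGroup.of_card (n := 13) (by rw [hQcard]; norm_num)
  have hQN : Q ≤ f.ker := hfker ▸ Subgroup.comap_mono (Qz_le_K0 hS)
  have hcentral : Subgroup.centralizer (Q : Set ↥C) ≤ Q := by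
    intro c hc
    rw [hQdef, Subgroup.mem_comap]
    refine kerTau_le_Qz hS (centralizer_Qz hS fun y hy => ?_)
    obtain ⟨y', rfl⟩ := hQC hy
    exact ((Subgroup.mem_centralizer_iff.1 hc y' hy).symm : c * y' = y' * c) |>
      fun e => (show Commute c y' from e).map ι
  have hcore : pCore 2 ↥C = Q := by
    refine le_antisymm ?_ (PSolvable.le_pCore hQ2)
    set R := pCore 2 ↥C with hRdef
    have hR2 : IsPGroup 2 R := PSolvable.pCore_isPGroup
    have hRchar : R.Characteristic := PSolvable.pCore_characteristic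
    -- the core is normal in the whole centraliser
    have hRn : (R.map ι).Normal := by
      haveI : (ι.range).Normal := hιr ▸ inferInstance
      let e : ↥C ≃* ↥ι.range := MonoidHom.ofInjective hι
      haveI hch : (R.map e.toMonoidHom).Characteristic := by
        rw [hRdef, PSolvable.map_pCore_equiv e]
        exact PSolvable.pCore_characteristic
      have hmap : (R.map e.toMonoidHom).map ι.range.subtype = R.map ι := by
        rw [Subgroup.map_map]; rfl
      rw [← hmap]
      infer_instance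
    set S := (R.map ι).map (rho hS) with hSdef
    have hbot : S = ⊥ := by
      refine eq_bot_of_normalised ((hR2.map ι).map (rho hS)) ?_ ?_ ?_
      · rw [← hrange]; exact Subgroup.map_le_range _ _
      · rintro y hy _ ⟨r, hr, rfl⟩
        rw [← hrange] at hy
        obtain ⟨g, rfl⟩ := hy
        exact ⟨g * r * g⁻¹, hRn.conj_mem r hr g, by rw [map_mul, map_mul, map_inv]⟩
      · refine hfrange ▸ Subgroup.card_le_of_le (sup_le ?_ hSle)
        rw [hSdef, Subgroup.map_map]
        exact Subgroup.map_le_range _ _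
    have hRN : R ≤ f.ker := fun r hr => by
      have : f r ∈ S := ⟨ι r, Subgroup.mem_map_of_mem _ hr, rfl⟩
      rw [hbot, Subgroup.mem_bot] at this
      exact this
    have : Fact (Nat.Prime 2) := ⟨Nat.prime_two⟩
    obtain ⟨n, hn⟩ := IsPGroup.iff_card.1 hR2
    have hd := Subgroup.card_dvd_of_le hRN
    rw [hn, hNcard] at hd
    have hn13 : n ≤ 13 := by
      by_contra hc
      have := Nat.dvd_trans (pow_dvd_pow 2 (show 14 ≤ n by omega)) hd
      norm_num at this
    refine (Subgroup.eq_of_le_of_card_ge (PSolvable.le_pCore hQ2) ?_).ge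
    rw [hn, hQcard]
    exact (Nat.pow_le_pow_right (by norm_num) hn13).trans (by norm_num)
  have hFstar : generalizedFittingSubgroup ↥C = Q := by
    haveI : Fact (Nat.Prime 2) := ⟨Nat.prime_two⟩
    rw [CharP.generalizedFittingSubgroup_eq_pCore (p := 2) (by rw [hcore]; exact hcentral), hcore]
  -- extraspecial
  have hzQ : ∃ c : ↥C, ι c = zZ ∧ c ∈ Q := by
    obtain ⟨c, hc⟩ := hQC (zZ_memQ hS)
    exact ⟨c, hc, by rw [hQdef, Subgroup.mem_comap, hc]; exact zZ_memQ hS⟩
  obtain ⟨c₀, hc₀, hc₀Q⟩ := hzQ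
  have hcz : ∀ q : ↥Q, (q : ↥C) * c₀ = c₀ * q := fun q => hι (by
    rw [map_mul, map_mul, hc₀]; exact zZ_central (ι q))
  have hkz : ∀ q : ↥Q, ι q ∈ (tau hS).ker → q = 1 ∨ q = ⟨c₀, hc₀Q⟩ := fun q hq => by
    rcases kerTau hS _ hq with h | h
    · exact Or.inl (Subtype.ext (hι (h.trans (map_one ι).symm)))
    · exact Or.inr (Subtype.ext (hι (h.trans hc₀.symm)))
  have hzc : (⟨c₀, hc₀Q⟩ : ↥Q) ∈ Subgroup.center ↥Q :=
    Subgroup.mem_center_iff.2 fun q => Subtype.ext (hcz q)
  have hES : IsExtraspecial 2 ↥Q := by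
    obtain ⟨c7, hc7⟩ := hQC (qZ_mem hS (show 7 < 12 by norm_num))
    obtain ⟨c1, hc1⟩ := hQC (qZ_mem hS (show 0 < 12 by norm_num))
    have hm7 : c7 ∈ Q := by rw [hQdef, Subgroup.mem_comap, hc7]; exact qZ_mem hS (by norm_num)
    have hm1 : c1 ∈ Q := by rw [hQdef, Subgroup.mem_comap, hc1]; exact qZ_mem hS (by norm_num)
    refine LargeES.Heisenberg.isExtraspecial_of_props hQ2 (z := ⟨c₀, hc₀Q⟩) ?_ hzc ?_ ?_ ?_
      (x := ⟨c1, hm1⟩) (y := ⟨c7, hm7⟩) ?_
    · exact fun e => zZ_ne hS (by rw [← hc₀, show c₀ = 1 from congrArg Subtype.val e]; exact map_one ι)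
    · intro x hx
      refine hkz x (centralizer_Qz hS fun y hy => ?_)
      obtain ⟨y', rfl⟩ := hQC hy
      exact (show Commute (x : ↥C) y' from
        (congrArg Subtype.val (Subgroup.mem_center_iff.1 hx ⟨y', hy⟩)).symm).map ι
    · intro x
      have h : ι ((x ^ 2 : ↥Q) : ↥C) ∈ (tau hS).ker := by
        rw [Subgroup.coe_pow, map_pow, MonoidHom.mem_ker, map_pow, pow_two]
        exact tau_Qz_sq hS x.2
      rcases hkz _ h with e | e <;> rw [e]
      exacts [one_mem _, hzc]
    · intro x y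
      have h : ι ((x * y * x⁻¹ * y⁻¹ : ↥Q) : ↥C) ∈ (tau hS).ker := by
        simp only [Subgroup.coe_mul, Subgroup.coe_inv, map_mul, map_inv, MonoidHom.mem_ker]
        rw [(tau_Qz_comm hS x.2 y.2).eq, mul_inv_cancel_right, mul_inv_cancel]
      rcases hkz _ h with e | e <;> rw [e]
      exacts [one_mem _, hzc]
    · intro e
      have e' : qZ hS 0 * qZ hS 7 = qZ hS 7 * qZ hS 0 := by
        rw [← hc1, ← hc7, ← map_mul, ← map_mul]
        exact congrArg (fun q : ↥Q => ι q.1) e
      have h := qZ_conj hS (show 0 < 12 by norm_num) (show 7 < 12 by norm_num)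
      rw [show (gramData.getD 0 0).testBit 7 = true by decide +kernel, sgnZ, if_pos rfl, e',
        mul_inv_cancel_right, eq_comm, mul_eq_right] at h
      exact zZ_ne hS h
  exact ⟨Q, hQn, hFstar, hES, by rw [hQcard]; norm_num, f.ker, M, inferInstance, hMn, hQN, hNM,
    by rw [hNcard, hQcard], ⟨UThreeThree.Nine, inferInstance, inferInstance,
      card_nine.trans (by norm_num), ⟨eMN⟩⟩, hMidx⟩

end Derived

end Cfsg.Agent.Lib.M24Two74
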