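import Cfsg.Agent.Lib.M24Two74.PointChecks

/-!
Kernel checks on the members 0 to 8.
-/

set_option autoImplicit false
set_option maxRecDepth 100000

namespace Cfsg.Agent.Lib.M24Two74

open Cfsg.Agent.Lib.CosetTable.Lanes

theorem members_check0 : allB memberOK [0, 1, 2, 3, 4, 5, 6, 7, 8] = true := by decide +kernel

end Cfsg.Agent.Lib.M24Two74
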