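import Cfsg.Agent.Lib.M24Two74.Rows
import Cfsg.Agent.Lib.CosetTable.Lanes.Fi24.EvalDefs

/-!
Kernel checks on the lanes fixed by the four-product: the listed words act on them as listed.
-/

set_option autoImplicit false
set_option maxRecDepth 100000

namespace Cfsg.Agent.Lib.M24Two74

open Cfsg.Agent.Lib.CosetTable.Lanes

/-- the positions -/
noncomputable def positions : List Nat :=
  List.range 504

/-- the word moves lane `i` to the listed one -/
noncomputable def moveOK (w : List Nat) (S i : Nat) : Bool :=
  both (Nat.blt (at9 S i) 504)
    (Nat.beq (Fi24.wordPt w (fPts.getD i 0)) (fPts.getD (at9 S i) 0))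

/-- the word moves all lanes as listed -/
noncomputable def rowOK (w : List Nat) (S : Nat) : Bool := allB (moveOK w S) positions

/-- all entries differ from `x` -/
def noneEq (x : Nat) : List Nat → Bool
  | [] => true
  | y :: l => !Nat.beq x y && noneEq x l

/-- no repetition -/
def distinctB : List Nat → Bool
  | [] => true
  | x :: l => noneEq x l && distinctB l

/-- the checks for member `k` -/
noncomputable def memberOK (k : Nat) : Bool :=
  both (Nat.beq (Fi24.wordPt (memberData.getD k (0, [])).2 Fi24.base)
      (fPts.getD (memberData.getD k (0, [])).1 0))
    (rowOK ((memberData.getD k (0, [])).2 ++ 0 :: (memberData.getD k (0, [])).2.reverse) (rows.getD k 0))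

theorem fPts_length : fPts.length = 504 := by decide +kernel

theorem fPts_distinct : distinctB fPts = true := by decide +kernel

theorem quad_check : allB (fun i => Nat.beq (Fi24.wordPt [0, 2, 4, 6] (fPts.getD i 0)) (fPts.getD i 0))
    positions = true := by decide +kernel

theorem x_check : rowOK xData xRow = true := by decide +kernel

end Cfsg.Agent.Lib.M24Two74
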