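import Cfsg.Agent.Lib.M24Two74.Data

/-!
Entries of the packed permutations.
-/

namespace Cfsg.Agent.Lib.M24Two74

/-- entry `i` of a packed permutation, nine bits each -/
def at9 (S i : Nat) : Nat := Nat.land (Nat.shiftRight S (Nat.mul 9 i)) 511

end Cfsg.Agent.Lib.M24Two74
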