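import Cfsg.Agent.Lib.M24Two74.Count

/-!
The centraliser of a four-product: its action on the 504 members and on the 126 blocks, the
extraspecial subgroup and the kernel of the action on blocks.
-/

set_option autoImplicit false
set_option maxRecDepth 100000

namespace Cfsg.Agent.Lib.M24Two74

open Cfsg
open Cfsg.Agent.Lib.CosetTable Cfsg.Agent.Lib.CosetTable.Lanes
open Cfsg.Agent.Lib.Fischer5
open Cfsg.Agent.Lib.Forms
open Cfsg.Agent.Lib.Fischer3T25 (fixedMem)

universe u

variable {G : Type u} [Group G]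

/-- the centraliser of the four-product -/
abbrev Zc (ψ : Cfsg.Spor.Fi24 →* G) : Subgroup G := Subgroup.centralizer ({z4 ψ} : Set G)

theorem tau_exists [Finite G] {D : Set G} {ψ : Cfsg.Spor.Fi24 →* G} (hS : Setup D ψ) (g : ↥(Zc ψ))
    (i : Fin 504) : ∃ j, mu ψ j = (g : G) * mu ψ i * (g : G)⁻¹ := by
  have h : (g : G) * mu ψ i * (g : G)⁻¹ ∈ Set.range (mu ψ) := by
    rw [range_mu hS]
    have hg : Commute (g : G) (z4 ψ) := Subgroup.mem_centralizer_singleton_iff.1 g.2
    refine ⟨hS.ctx.conj _ _ (mu_mem hS i), ?_⟩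
    have := (ThreeTransp.commute_conj_iff (g : G)).2 (mu_commute hS i)
    rwa [hg.eq, mul_inv_cancel_right] at this
  exact h

variable [Finite G] {D : Set G} {ψ : Cfsg.Spor.Fi24 →* G} (hS : Setup D ψ)

/-- image of a position -/
noncomputable def tauFun (g : ↥(Zc ψ)) (i : Fin 504) : Fin 504 := (tau_exists hS g i).choose

theorem tauFun_spec (g : ↥(Zc ψ)) (i : Fin 504) :
    mu ψ (tauFun hS g i) = (g : G) * mu ψ i * (g : G)⁻¹ := (tau_exists hS g i).choose_spec

theorem tauFun_mul (g h : ↥(Zc ψ)) (i : Fin 504) :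
    tauFun hS (g * h) i = tauFun hS g (tauFun hS h i) :=
  mu_inj hS (by rw [tauFun_spec, tauFun_spec, tauFun_spec, Subgroup.coe_mul]; group)

theorem tauFun_one (i : Fin 504) : tauFun hS 1 i = i :=
  mu_inj hS (by rw [tauFun_spec, Subgroup.coe_one, one_mul, inv_one, mul_one])

/-- the action on the 504 members -/
noncomputable def tau : ↥(Zc ψ) →* Equiv.Perm (Fin 504) where
  toFun g := ⟨tauFun hS g, tauFun hS g⁻¹,
    fun i => by rw [← tauFun_mul, inv_mul_cancel, tauFun_one],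
    fun i => by rw [← tauFun_mul, mul_inv_cancel, tauFun_one]⟩
  map_one' := Equiv.ext fun i => tauFun_one hS i
  map_mul' g h := Equiv.ext fun i => tauFun_mul hS g h i

theorem tau_spec (g : ↥(Zc ψ)) (i : Fin 504) :
    mu ψ (tau hS g i) = (g : G) * mu ψ i * (g : G)⁻¹ := tauFun_spec hS g i

theorem tau_eq {g : ↥(Zc ψ)} {i j : Fin 504} (h : (g : G) * mu ψ i * (g : G)⁻¹ = mu ψ j) :
    tau hS g i = j := mu_inj hS ((tau_spec hS g i).trans h)

include hS in
/-- images of the members of one block lie in one block -/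
theorem tau_block (g : ↥(Zc ψ)) (i : Fin 504) :
    blockOf (tau hS g i) = blockOf (tau hS g (pos4 (blockOf i) 0)) := by
  set b := blockOf i
  have hcomm : ∀ x ∈ (blk ψ b).map (fun x => (g : G) * x * (g : G)⁻¹),
      ∀ y ∈ (blk ψ b).map (fun x => (g : G) * x * (g : G)⁻¹), Commute x y := by
    intro x hx y hy
    obtain ⟨x, hx', rfl⟩ := List.mem_map.1 hx
    obtain ⟨y, hy', rfl⟩ := List.mem_map.1 hy
    exact (ThreeTransp.commute_conj_iff (g : G)).2 ((blk_spec hS b).2 x hx' y hy')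
  have hg : Commute (g : G) (z4 ψ) := Subgroup.mem_centralizer_singleton_iff.1 g.2
  obtain ⟨c, hc⟩ := quad_unique hS
    ((blk_nodup hS b).map (fun x y e => mul_left_cancel (mul_right_cancel e)))
    (by rw [List.length_map, blk_length])
    (fun x hx => by
      obtain ⟨x, hx', rfl⟩ := List.mem_map.1 hx
      obtain ⟨k, rfl⟩ := mem_blk.1 hx'
      exact hS.ctx.conj _ _ (mu_mem hS _)) hcomm
    (by rw [show (fun x => (g : G) * x * (g : G)⁻¹) = ⇑(MulAut.conj (g : G)) from rfl, ← map_list_prod,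
          (blk_spec hS b).1]
        show (g : G) * z4 ψ * (g : G)⁻¹ = z4 ψ
        rw [hg.eq, mul_inv_cancel_right])
  have key : ∀ j, blockOf j = b → blockOf (tau hS g j) = c := fun j hj => by
    refine (mem_blk_iff hS).1 (hc.mem_iff.1 ?_)
    rw [tau_spec]
    exact List.mem_map.2 ⟨_, (mem_blk_iff hS).2 hj, rfl⟩
  rw [key i rfl, key _ (blockOf_pos4 b 0)]

/-- image of a block -/
noncomputable def rhoFun (g : ↥(Zc ψ)) (b : Fin 126) : Fin 126 := blockOf (tau hS g (pos4 b 0))

theorem rhoFun_mul (g h : ↥(Zc ψ)) (b : Fin 126) :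
    rhoFun hS (g * h) b = rhoFun hS g (rhoFun hS h b) := by
  show blockOf (tau hS (g * h) (pos4 b 0)) = _
  rw [map_mul, Equiv.Perm.mul_apply, tau_block]
  rfl

theorem rhoFun_one (b : Fin 126) : rhoFun hS 1 b = b := by
  show blockOf (tau hS 1 (pos4 b 0)) = b
  rw [map_one, Equiv.Perm.one_apply, blockOf_pos4]

/-- the action on the 126 blocks -/
noncomputable def rho : ↥(Zc ψ) →* Equiv.Perm (Fin 126) where
  toFun g := ⟨rhoFun hS g, rhoFun hS g⁻¹,
    fun i => by rw [← rhoFun_mul, inv_mul_cancel, rhoFun_one],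
    fun i => by rw [← rhoFun_mul, mul_inv_cancel, rhoFun_one]⟩
  map_one' := Equiv.ext fun b => rhoFun_one hS b
  map_mul' g h := Equiv.ext fun b => rhoFun_mul hS g h b

theorem rho_blockOf (g : ↥(Zc ψ)) (i : Fin 504) : rho hS g (blockOf i) = blockOf (tau hS g i) :=
  (tau_block hS g i).symm

/-- a member -/
noncomputable def mZ (i : Fin 504) : ↥(Zc ψ) :=
  ⟨mu ψ i, Subgroup.mem_centralizer_singleton_iff.2 (mu_commute hS i)⟩

/-- a chosen member -/
noncomputable def memZ (m : ℕ) : ↥(Zc ψ) :=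
  if h : m < 18 then mZ hS ⟨memPos m, by unfold memPos; omega⟩ else 1

theorem tau_memZ {m : ℕ} (hm : m < 18) (i : Fin 504) : (tau hS (memZ hS m) i).val = rowImg m i.val := by
  obtain ⟨h, e⟩ := member_conj hS hm i
  rw [memZ, dif_pos hm, tau_eq hS (j := ⟨_, h⟩) e]

theorem rho_memZ {m : ℕ} (hm : m < 18) : rho hS (memZ hS m) = act (rb ⟨m / 3, by omega⟩) := by
  refine Equiv.ext fun b => ?_
  obtain ⟨h, e⟩ := member_conj hS hm (pos4 b 0)
  show blockOf (tau hS (memZ hS m) (pos4 b 0)) = _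
  rw [memZ, dif_pos hm, tau_eq hS (j := ⟨_, h⟩) e, ← img_row hm (pos4 b 0) h, blockOf_pos4]
  rfl

theorem xData_ok : Fi24Points.wordOK xData = true ∧ xData.length % 2 = 0 := by decide +kernel

include hS in
theorem x_conj (i : Fin 504) : ∃ h : xImg i.val < 504,
    Fi24Points.el ψ xData * mu ψ i * (Fi24Points.el ψ xData)⁻¹ = mu ψ ⟨xImg i.val, h⟩ := by
  obtain ⟨hlt, e⟩ := image_of_rowOK xData_ok.1 x_check i.isLt
  exact ⟨hlt, by rw [mu, Fi24Points.conj_point xData_ok.1 (fLane_lt i.isLt), e]; rfl⟩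

theorem img_x (i : Fin 504) (h : xImg i.val < 504) :
    img (reflElem (W_ne 0)) (blockOf i) = blockOf ⟨xImg i.val, h⟩ := by
  have hok := List.all_eq_true.1 x_blocks i.val (List.mem_range.2 i.isLt)
  rw [Bool.and_eq_true] at hok
  exact img_refl _ hok.2

include hS in
theorem x_mem : Fi24Points.el ψ xData ∈ Zc ψ := by
  set g := Fi24Points.el ψ xData with hg
  set c := img (reflElem (W_ne 0)) (0 : Fin 126)
  have hperm : ((blk ψ 0).map fun x => g * x * g⁻¹).Perm (blk ψ c) := by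
    refine blk_perm hS ((blk_nodup hS 0).map fun x y e => mul_left_cancel (mul_right_cancel e))
      (by rw [List.length_map, blk_length]) fun x hx => ?_
    obtain ⟨y, hy, rfl⟩ := List.mem_map.1 hx
    obtain ⟨k, rfl⟩ := mem_blk.1 hy
    obtain ⟨h, e⟩ := x_conj hS (pos4 0 k)
    rw [hg, e, mem_blk_iff hS, ← img_x (pos4 0 k) h, blockOf_pos4]
  have hcomm : ∀ x ∈ (blk ψ 0).map (fun x => g * x * g⁻¹),
      ∀ y ∈ (blk ψ 0).map (fun x => g * x * g⁻¹), Commute x y := fun x hx y hy =>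
    (blk_spec hS c).2 x (hperm.mem_iff.1 hx) y (hperm.mem_iff.1 hy)
  have e := hperm.prod_eq' (List.pairwise_of_forall_mem_list fun x hx y hy => hcomm x hx y hy)
  rw [(blk_spec hS c).1, show (fun x => g * x * g⁻¹) = ⇑(MulAut.conj g) from rfl, ← map_list_prod,
    (blk_spec hS 0).1] at e
  rw [Subgroup.mem_centralizer_singleton_iff]
  exact mul_inv_eq_iff_eq_mul.1 (e : g * z4 ψ * g⁻¹ = z4 ψ)

/-- the chosen product of two transpositions -/
noncomputable def xZ : ↥(Zc ψ) := ⟨Fi24Points.el ψ xData, x_mem hS⟩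

theorem tau_xZ (i : Fin 504) : (tau hS (xZ hS) i).val = xImg i.val := by
  obtain ⟨h, e⟩ := x_conj hS i
  rw [tau_eq hS (g := xZ hS) (j := ⟨_, h⟩) e]

theorem rho_xZ : rho hS (xZ hS) = act (reflElem (W_ne 0)) := by
  refine Equiv.ext fun b => ?_
  obtain ⟨h, e⟩ := x_conj hS (pos4 b 0)
  show blockOf (tau hS (xZ hS) (pos4 b 0)) = _
  rw [tau_eq hS (g := xZ hS) (j := ⟨_, h⟩) e, ← img_x (pos4 b 0) h, blockOf_pos4]
  rfl

/-- the chosen generators -/
noncomputable def genZ (g : ℕ) : ↥(Zc ψ) := if g < 18 then memZ hS g else xZ hS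

theorem tau_genZ {g : ℕ} (hg : g < 19) (i : Fin 504) : (tau hS (genZ hS g) i).val = genImg g i.val := by
  unfold genZ genImg
  split
  · exact tau_memZ hS (by assumption) i
  · exact tau_xZ hS i

/-- product of chosen members -/
noncomputable def listZ (l : List ℕ) : ↥(Zc ψ) := (l.map (memZ hS)).prod

theorem tau_listZ : ∀ {l : List ℕ}, (∀ m ∈ l, m < 18) → ∀ i : Fin 504,
    (tau hS (listZ hS l) i).val = listImg l i.val
  | [], _, i => by simp [listZ, listImg]
  | m :: l, h, i => by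
    rw [show listZ hS (m :: l) = memZ hS m * listZ hS l from rfl, map_mul, Equiv.Perm.mul_apply,
      tau_memZ hS (h m List.mem_cons_self), tau_listZ (fun a ha => h a (List.mem_cons_of_mem _ ha)) i]
    rfl

/-- the four-product in its centraliser -/
noncomputable def zZ : ↥(Zc ψ) := ⟨z4 ψ, Subgroup.mem_centralizer_singleton_iff.2 rfl⟩

theorem tau_zZ : tau hS zZ = 1 := Equiv.ext fun i => tau_eq hS (by
  show z4 ψ * mu ψ i * (z4 ψ)⁻¹ = mu ψ i
  rw [(mu_commute hS i).symm.eq, mul_inv_cancel_right])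

include hS in
theorem zZ_ne : (zZ : ↥(Zc ψ)) ≠ 1 := fun e => by
  have h := (blk_spec hS 0).1.trans (congrArg Subtype.val e)
  have hN := hS.noProd 4 (by norm_num) (by norm_num)
  exact hN (blk ψ 0) (blk_nodup hS 0) rfl
    (fun a ha => by obtain ⟨k, rfl⟩ := mem_blk.1 ha; exact mu_mem hS _) (blk_spec hS 0).2 h

omit [Finite G] in
theorem zZ_central (g : ↥(Zc ψ)) : g * zZ = zZ * g :=
  Subtype.ext (Subgroup.mem_centralizer_singleton_iff.1 g.2)

include hS in
theorem blk_prod (b : Fin 126) :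
    mu ψ (pos4 b 0) * mu ψ (pos4 b 1) * mu ψ (pos4 b 2) * mu ψ (pos4 b 3) = z4 ψ := by
  rw [← (blk_spec hS b).1]; simp [blk, mul_assoc]

theorem mZ_mul_self (i : Fin 504) : mZ hS i * mZ hS i = 1 := Subtype.ext (mu_sq hS i)

theorem mZ_comm (b : Fin 126) (k l : Fin 4) :
    Commute (mZ hS (pos4 b k)) (mZ hS (pos4 b l)) :=
  Subtype.ext ((blk_spec hS b).2 _ (mem_blk.2 ⟨k, rfl⟩) _ (mem_blk.2 ⟨l, rfl⟩))

theorem mZ_prod (b : Fin 126) :
    mZ hS (pos4 b 0) * mZ hS (pos4 b 1) * mZ hS (pos4 b 2) * mZ hS (pos4 b 3) = zZ :=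
  Subtype.ext (blk_prod hS b)

include hS in
theorem zZ_sq : (zZ : ↥(Zc ψ)) * zZ = 1 := by
  rw [← mZ_prod hS 0]
  have c := mZ_comm hS (0 : Fin 126)
  have s := fun k => mZ_mul_self hS (pos4 0 k)
  rw [((c 0 3).mul_left (c 1 3) |>.mul_left (c 2 3)).symm.mul_mul_mul_comm, s 3, mul_one,
    ((c 0 2).mul_left (c 1 2)).symm.mul_mul_mul_comm, s 2, mul_one,
    (c 0 1).symm.mul_mul_mul_comm, s 1, mul_one, s 0]

theorem other_pair (b : Fin 126) :
    mZ hS (pos4 b 2) * mZ hS (pos4 b 3) = zZ * (mZ hS (pos4 b 0) * mZ hS (pos4 b 1)) ∧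
    mZ hS (pos4 b 1) * mZ hS (pos4 b 3) = zZ * (mZ hS (pos4 b 0) * mZ hS (pos4 b 2)) := by
  have c := mZ_comm hS b
  have s := fun k => mZ_mul_self hS (pos4 b k)
  have key : ∀ p q r t : ↥(Zc ψ), Commute p q → p * p = 1 → q * q = 1 → p * q * r * t = zZ →
      r * t = zZ * (p * q) := fun p q r t hpq hp hq h => by
    rw [← zZ_central, ← h, mul_assoc (p * q) r t, ← mul_assoc (p * q) (p * q),
      hpq.symm.mul_mul_mul_comm, hp, hq, one_mul, one_mul]
  refine ⟨key _ _ _ _ (c 0 1) (s 0) (s 1) (mZ_prod hS b), key _ _ _ _ (c 0 2) (s 0) (s 2) ?_⟩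
  rw [mul_assoc (mZ hS (pos4 b 0)), (c 2 1).eq, ← mul_assoc, mZ_prod hS b]

/-- pair product `k` -/
noncomputable def qZ (k : ℕ) : ↥(Zc ψ) := listZ hS (pairMem k)

theorem qZ_eq {k : ℕ} (hk : k < 12) : qZ hS k =
    mZ hS (pos4 ⟨k / 2, by omega⟩ 0) * mZ hS (pos4 ⟨k / 2, by omega⟩ ⟨1 + k % 2, by omega⟩) := by
  simp only [qZ, listZ, pairMem, List.map_cons, List.map_nil, List.prod_cons, List.prod_nil, mul_one,
    memZ]
  rw [dif_pos (by omega), dif_pos (by omega)]
  congr 2 <;> refine Fin.ext ?_ <;> simp only [memPos, pos4, Fin.val_zero] <;> omega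

theorem tau_qZ {k : ℕ} (hk : k < 12) (i : Fin 504) : (tau hS (qZ hS k) i).val = qImg k i.val :=
  tau_listZ hS (fun m hm => pairMem_lt k hk m hm) i

/-- a sign -/
noncomputable def sgnZ (e : Bool) : ↥(Zc ψ) := if e then zZ else 1

omit [Finite G] in
theorem sgnZ_central (e : Bool) (g : ↥(Zc ψ)) : g * sgnZ e = sgnZ e * g := by
  cases e
  · simp [sgnZ]
  · exact zZ_central g

include hS in
theorem sgnZ_xor (a b : Bool) : (sgnZ a : ↥(Zc ψ)) * sgnZ b = sgnZ (xor a b) := by
  cases a <;> cases b <;> simp [sgnZ, zZ_sq hS]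

include hS in
theorem sgnZ_inj {a b : Bool} (h : (sgnZ a : ↥(Zc ψ)) = sgnZ b) : a = b := by
  cases a <;> cases b <;> simp [sgnZ, zZ_ne hS, (zZ_ne hS).symm] at h ⊢

theorem qZ_conj {j k : ℕ} (hj : j < 12) (hk : k < 12) :
    qZ hS j * qZ hS k * (qZ hS j)⁻¹ = sgnZ ((gramData.getD j 0).testBit k) * qZ hS k := by
  have hc := List.all_eq_true.1 (List.all_eq_true.1 gram_check j (List.mem_range.2 hj)) k
    (List.mem_range.2 hk)
  have hconj : ∀ i, qZ hS j * mZ hS i * (qZ hS j)⁻¹ = mZ hS (tau hS (qZ hS j) i) := fun i =>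
    Subtype.ext (tau_spec hS (qZ hS j) i).symm
  set b : Fin 126 := ⟨k / 2, by omega⟩ with hb
  set f : Fin 4 := ⟨1 + k % 2, by omega⟩ with hf
  rw [qZ_eq hS hk, ← hb, ← hf, ← conj_mul, hconj, hconj]
  set p := tau hS (qZ hS j) (pos4 b 0) with hp
  set p' := tau hS (qZ hS j) (pos4 b f) with hp'
  have ep : p.val = qImg j (4 * (k / 2)) := tau_qZ hS hj _
  have ep' : p'.val = qImg j (4 * (k / 2) + 1 + k % 2) := by
    rw [hp', tau_qZ hS hj]
    simp only [pos4, hb, hf]
    rw [← Nat.add_assoc]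
  have same : ∀ u v : Fin 4, samePair p.val p'.val (4 * (k / 2) + u.val) (4 * (k / 2) + v.val) = true →
      mZ hS p * mZ hS p' = mZ hS (pos4 b u) * mZ hS (pos4 b v) := by
    intro u v h
    simp only [samePair, Bool.or_eq_true, Bool.and_eq_true] at h
    rcases h with ⟨h1, h2⟩ | ⟨h1, h2⟩
    · rw [show p = pos4 b u from Fin.ext (Nat.eq_of_beq_eq_true h1),
        show p' = pos4 b v from Fin.ext (Nat.eq_of_beq_eq_true h2)]
    · rw [show p = pos4 b v from Fin.ext (Nat.eq_of_beq_eq_true h1),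
        show p' = pos4 b u from Fin.ext (Nat.eq_of_beq_eq_true h2), (mZ_comm hS b u v).eq]
  cases hbit : (gramData.getD j 0).testBit k
  · rw [hbit, if_neg (by simp), ← ep, ← ep'] at hc
    rw [same 0 f (by simpa [hf, Nat.add_assoc] using hc), sgnZ, if_neg (by simp), one_mul]
  · rw [hbit, if_pos rfl, ← ep, ← ep'] at hc
    rw [sgnZ, if_pos rfl]
    rcases (show k % 2 = 0 ∨ k % 2 = 1 by omega) with h2 | h2
    · rw [same 2 3 (by simpa [h2] using hc), (other_pair hS b).1, show f = 1 from Fin.ext (by simp [hf, h2])]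
    · rw [same 1 3 (by simpa [h2] using hc), (other_pair hS b).2, show f = 2 from Fin.ext (by simp [hf, h2])]

/-- ordered product of pair products -/
noncomputable def qProd (l : List ℕ) : ↥(Zc ψ) := (l.map (qZ hS)).prod

theorem listZ_flatMap : ∀ l : List ℕ, listZ hS (l.flatMap pairMem) = qProd hS l
  | [] => rfl
  | k :: l => by
    rw [List.flatMap_cons, listZ, List.map_append, List.prod_append, qProd, List.map_cons,
      List.prod_cons]
    exact congrArg (qZ hS k * ·) (listZ_flatMap l)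

theorem qProd_conj {j : ℕ} (hj : j < 12) : ∀ {l : List ℕ}, (∀ k ∈ l, k < 12) →
    qZ hS j * qProd hS l * (qZ hS j)⁻¹ =
      sgnZ (l.foldr (fun k r => xor ((gramData.getD j 0).testBit k) r) false) * qProd hS l
  | [], _ => by simp [qProd, sgnZ]
  | k :: l, h => by
    rw [show qProd hS (k :: l) = qZ hS k * qProd hS l from rfl, ← conj_mul,
      qZ_conj hS hj (h k List.mem_cons_self),
      qProd_conj hj (fun a ha => h a (List.mem_cons_of_mem _ ha)), List.foldr_cons, ← sgnZ_xor hS]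
    simp only [mul_assoc]
    rw [← mul_assoc (qZ hS k), sgnZ_central, mul_assoc]

theorem foldr_filter_bits (p q : ℕ → Bool) : ∀ L : List ℕ,
    (L.filter p).foldr (fun k r => xor (q k) r) false =
      L.foldr (fun k r => xor (q k && p k) r) false
  | [] => rfl
  | k :: L => by
    cases hp : p k <;> simp [List.filter_cons, hp, foldr_filter_bits p q L]

/-- ordered product of the pair products in a mask -/
noncomputable def maskZ (e : ℕ) : ↥(Zc ψ) := qProd hS ((List.range 12).filter fun k => e.testBit k)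

theorem maskZ_conj {j : ℕ} (hj : j < 12) (e : ℕ) :
    qZ hS j * maskZ hS e * (qZ hS j)⁻¹ = sgnZ (dot12 (gramData.getD j 0) e) * maskZ hS e := by
  rw [maskZ, qProd_conj hS hj (fun k hk => List.mem_range.1 (List.mem_filter.1 hk).1),
    foldr_filter_bits]
  rfl

theorem mem_ker_commute {g : ↥(Zc ψ)} (hg : g ∈ (tau hS).ker) (i : Fin 504) :
    Commute g (mZ hS i) := by
  have h := tau_spec hS g i
  rw [MonoidHom.mem_ker.1 hg, Equiv.Perm.one_apply] at h
  exact Subtype.ext (mul_inv_eq_iff_eq_mul.1 h.symm)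

theorem mem_ker_commute_q {g : ↥(Zc ψ)} (hg : g ∈ (tau hS).ker) {j : ℕ} (hj : j < 12) :
    Commute g (qZ hS j) := by
  rw [qZ_eq hS hj]
  exact (mem_ker_commute hS hg _).mul_right (mem_ker_commute hS hg _)

theorem maskZ_inj {e f : ℕ} (he : e < 4096) (hf : f < 4096)
    (h : tau hS (maskZ hS e) = tau hS (maskZ hS f)) : e = f := by
  set k := (maskZ hS f)⁻¹ * maskZ hS e
  have hk : k ∈ (tau hS).ker := by rw [MonoidHom.mem_ker, map_mul, map_inv, h, inv_mul_cancel]
  have hdot : ∀ j < 12, dot12 (gramData.getD j 0) e = dot12 (gramData.getD j 0) f := by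
    intro j hj
    refine sgnZ_inj hS ?_
    have h1 : qZ hS j * k * (qZ hS j)⁻¹ = k := by
      rw [(mem_ker_commute_q hS hk hj).symm.eq, mul_inv_cancel_right]
    have h2 : maskZ hS e = maskZ hS f * k := by simp [k]
    have h3 := maskZ_conj hS hj e
    rw [h2, ← conj_mul, maskZ_conj hS hj f, h1, mul_assoc] at h3
    exact (mul_right_cancel h3).symm
  refine Nat.xor_eq_zero_iff.1 ?_
  by_contra hne
  have hlt : e ^^^ f < 4096 := Nat.xor_lt_two_pow (n := 12) he hf
  have h' := List.all_eq_true.1 gram_nondeg _ (List.mem_range.2 hlt)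
  rw [Bool.or_eq_true, List.any_eq_true] at h'
  rcases h' with h' | ⟨j, hj, h'⟩
  · exact hne (Nat.eq_of_beq_eq_true h')
  · rw [dot12_xor, hdot j (List.mem_range.1 hj), Bool.xor_self] at h'
    exact Bool.noConfusion h'

/-- the extraspecial subgroup -/
noncomputable def Qz : Subgroup ↥(Zc ψ) :=
  Subgroup.closure (insert zZ ((qZ hS) '' {k | k < 12}))

theorem qZ_mem {k : ℕ} (hk : k < 12) : qZ hS k ∈ Qz hS :=
  Subgroup.subset_closure (Or.inr ⟨k, hk, rfl⟩)

theorem zZ_memQ : (zZ : ↥(Zc ψ)) ∈ Qz hS := Subgroup.subset_closure (Or.inl rfl)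

theorem maskZ_mem (e : ℕ) : maskZ hS e ∈ Qz hS := by
  refine list_prod_mem fun x hx => ?_
  obtain ⟨k, hk, rfl⟩ := List.mem_map.1 hx
  exact qZ_mem hS (List.mem_range.1 (List.mem_filter.1 hk).1)

/-- an element of order three fixing every block -/
noncomputable def hZ : ↥(Zc ψ) := listZ hS hData

/-- the subgroup that will be the kernel on blocks -/
noncomputable def K0 : Subgroup ↥(Zc ψ) := Subgroup.closure ((Qz hS : Set ↥(Zc ψ)) ∪ {hZ hS})

theorem hData_mem : ∀ m ∈ hData, m < 18 := fun m hm =>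
  Nat.blt_eq.mp (List.all_eq_true.1 hData_lt.1 m hm)

theorem Qz_le_ker : Qz hS ≤ (rho hS).ker := by
  rw [Qz, Subgroup.closure_le]
  rintro x (rfl | ⟨k, hk, rfl⟩) <;> rw [SetLike.mem_coe, MonoidHom.mem_ker] <;> refine Equiv.ext fun b => ?_
  · show blockOf (tau hS zZ (pos4 b 0)) = b
    rw [tau_zZ, Equiv.Perm.one_apply, blockOf_pos4]
  · show blockOf (tau hS (qZ hS k) (pos4 b 0)) = b
    refine Fin.ext ?_
    show (tau hS (qZ hS k) (pos4 b 0)).val / 4 = b.val
    rw [tau_qZ hS hk, Nat.eq_of_beq_eq_true (List.all_eq_true.1 (List.all_eq_true.1 pairs_blocks k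
      (List.mem_range.2 hk)) _ (List.mem_range.2 (pos4 b 0).isLt))]
    exact congrArg Fin.val (blockOf_pos4 b 0)

theorem K0_le_ker : K0 hS ≤ (rho hS).ker := by
  rw [K0, Subgroup.closure_le, Set.union_subset_iff, Set.singleton_subset_iff]
  refine ⟨Qz_le_ker hS, MonoidHom.mem_ker.2 (Equiv.ext fun b => ?_)⟩
  show blockOf (tau hS (hZ hS) (pos4 b 0)) = b
  refine Fin.ext ?_
  show (tau hS (hZ hS) (pos4 b 0)).val / 4 = b.val
  rw [hZ, tau_listZ hS hData_mem, Nat.eq_of_beq_eq_true (List.all_eq_true.1 h_blocks _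
    (List.mem_range.2 (pos4 b 0).isLt))]
  exact congrArg Fin.val (blockOf_pos4 b 0)

theorem tau_Qz_comm {x y : ↥(Zc ψ)} (hx : x ∈ Qz hS) (hy : y ∈ Qz hS) :
    Commute (tau hS x) (tau hS y) := by
  have hgen : ∀ j < 12, ∀ k < 12, Commute (tau hS (qZ hS j)) (tau hS (qZ hS k)) := by
    intro j hj k hk
    have h := congrArg (tau hS) (qZ_conj hS hj hk)
    rw [map_mul, map_mul, map_mul, map_inv, show tau hS (sgnZ ((gramData.getD j 0).testBit k)) = 1 by
      unfold sgnZ; split <;> simp [tau_zZ], one_mul] at h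
    exact mul_inv_eq_iff_eq_mul.1 h
  have h1 : ∀ k < 12, Commute (tau hS (qZ hS k)) (tau hS y) := by
    intro k hk
    induction hy using Subgroup.closure_induction with
    | mem g hg =>
      rcases hg with rfl | ⟨j, hj, rfl⟩
      · rw [tau_zZ]; exact Commute.one_right _
      · exact hgen k hk j hj
    | one => rw [map_one]; exact Commute.one_right _
    | mul a b _ _ ha hb => rw [map_mul]; exact ha.mul_right hb
    | inv a _ ha => rw [map_inv]; exact ha.inv_right
  induction hx using Subgroup.closure_induction with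
  | mem g hg =>
    rcases hg with rfl | ⟨j, hj, rfl⟩
    · rw [tau_zZ]; exact Commute.one_left _
    · exact h1 j hj
  | one => rw [map_one]; exact Commute.one_left _
  | mul a b _ _ ha hb => rw [map_mul]; exact ha.mul_left hb
  | inv a _ ha => rw [map_inv]; exact ha.inv_left

theorem tau_Qz_sq {x : ↥(Zc ψ)} (hx : x ∈ Qz hS) : tau hS x * tau hS x = 1 := by
  induction hx using Subgroup.closure_induction with
  | mem g hg =>
    rcases hg with rfl | ⟨k, hk, rfl⟩
    · rw [tau_zZ, one_mul]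
    · rw [← map_mul, qZ_eq hS hk, (mZ_comm hS _ _ _).symm.mul_mul_mul_comm, mZ_mul_self, mZ_mul_self,
        one_mul, map_one]
  | one => rw [map_one, one_mul]
  | mul a b ha hb iha ihb =>
    rw [map_mul, ((tau_Qz_comm hS hb ha)).mul_mul_mul_comm, iha, ihb, one_mul]
  | inv a _ ih => rw [map_inv, ← mul_inv_rev, ih, inv_one]

theorem card_tau_Qz : ∃ n, 12 ≤ n ∧ Nat.card ((Qz hS).map (tau hS)) = 2 ^ n := by
  have : Fact (Nat.Prime 2) := ⟨Nat.prime_two⟩
  have hp : IsPGroup 2 ((Qz hS).map (tau hS)) := by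
    rintro ⟨_, x, hx, rfl⟩
    exact ⟨1, Subtype.ext (by simp only [pow_one, pow_two]; exact tau_Qz_sq hS hx)⟩
  obtain ⟨n, hn⟩ := IsPGroup.iff_card.1 hp
  refine ⟨n, ?_, hn⟩
  have hge : 4096 ≤ Nat.card ((Qz hS).map (tau hS)) := by
    refine le_trans (le_of_eq (Nat.card_fin 4096).symm) (Nat.card_le_card_of_injective
      (fun e : Fin 4096 => (⟨tau hS (maskZ hS e.val), Subgroup.mem_map_of_mem _ (maskZ_mem hS _)⟩ :
        ↥((Qz hS).map (tau hS)))) fun e f h => Fin.ext (maskZ_inj hS e.isLt f.isLt ?_))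
    exact congrArg Subtype.val h
  rw [hn] at hge
  by_contra hc
  have := Nat.pow_le_pow_right (by norm_num : 2 > 0) (by omega : n ≤ 11)
  omega

theorem orderOf_tau_h : orderOf (tau hS (hZ hS)) = 3 := by
  have e := tau_listZ hS hData_mem
  refine orderOf_eq_prime (p := 3) ?_ ?_
  · refine Equiv.ext fun i => Fin.ext ?_
    rw [pow_succ, pow_two, Equiv.Perm.mul_apply, Equiv.Perm.mul_apply, hZ, e, e, e,
      Equiv.Perm.one_apply, Nat.eq_of_beq_eq_true (List.all_eq_true.1 h_cube _ (List.mem_range.2 i.isLt))]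
  · intro h
    obtain ⟨i, hi, hne⟩ := List.any_eq_true.1 h_ne
    have := e ⟨i, List.mem_range.1 hi⟩
    rw [← hZ, h, Equiv.Perm.one_apply] at this
    rw [← this] at hne
    simp at hne

theorem Qz_le_K0 : Qz hS ≤ K0 hS := fun _ hx => Subgroup.subset_closure (Or.inl hx)

theorem card_K0_dvd : ∃ n, 12 ≤ n ∧ Nat.card ((Qz hS).map (tau hS)) = 2 ^ n ∧
    3 * 2 ^ n ∣ Nat.card ((K0 hS).map (tau hS)) := by
  obtain ⟨n, hn, hc⟩ := card_tau_Qz hS
  refine ⟨n, hn, hc, Nat.Coprime.mul_dvd_of_dvd_of_dvd ((Nat.coprime_primes Nat.prime_three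
    Nat.prime_two).2 (by norm_num) |>.pow_right n) ?_ ?_⟩
  · rw [← orderOf_tau_h hS]
    exact Subgroup.orderOf_dvd_natCard _
      (Subgroup.mem_map_of_mem _ (Subgroup.subset_closure (Or.inr rfl)))
  · rw [← hc]
    exact Subgroup.card_dvd_of_le (Subgroup.map_mono (Qz_le_K0 hS))

theorem card_map_mul {A B : Type*} [Group A] [Group B] (f : A →* B) (K : Subgroup A) :
    Nat.card K = Nat.card (K.map f) * Nat.card (f.comp K.subtype).ker := by
  rw [Subgroup.card_eq_card_quotient_mul_card_subgroup (f.comp K.subtype).ker,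
    Nat.card_congr (QuotientGroup.quotientKerEquivRange (f.comp K.subtype)).toEquiv,
    MonoidHom.range_comp, Subgroup.range_subtype]

theorem two_le_kerTau {K : Subgroup ↥(Zc ψ)} (hz : (zZ : ↥(Zc ψ)) ∈ K) :
    2 ≤ Nat.card ((tau hS).comp K.subtype).ker := by
  have : Nontrivial ((tau hS).comp K.subtype).ker :=
    ⟨⟨⟨⟨zZ, hz⟩, MonoidHom.mem_ker.2 (tau_zZ hS)⟩, 1, fun e => zZ_ne hS (congrArg (fun q => q.1.1) e)⟩⟩
  exact Finite.one_lt_card

theorem le_card_K0 : 24576 ≤ Nat.card (K0 hS) := by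
  obtain ⟨n, hn, -, hd⟩ := card_K0_dvd hS
  rw [card_map_mul (tau hS)]
  have h1 := Nat.le_of_dvd Nat.card_pos hd
  have h2 := two_le_kerTau hS (Qz_le_K0 hS (zZ_memQ hS))
  have h3 : 4096 ≤ 2 ^ n := le_trans (by norm_num) (Nat.pow_le_pow_right (by norm_num) hn)
  calc 24576 = 3 * 4096 * 2 := by norm_num
    _ ≤ _ := Nat.mul_le_mul ((Nat.mul_le_mul_left 3 h3).trans h1) h2

/-- the subgroup of the chosen generators -/
noncomputable def Hz : Subgroup ↥(Zc ψ) := Subgroup.closure ((genZ hS) '' {g | g < 19})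

theorem memZ_memH {m : ℕ} (hm : m < 18) : memZ hS m ∈ Hz hS :=
  Subgroup.subset_closure ⟨m, (show m < 19 by omega), by rw [genZ, if_pos hm]⟩

theorem listZ_memH {l : List ℕ} (hl : ∀ m ∈ l, m < 18) : listZ hS l ∈ Hz hS := by
  refine list_prod_mem fun x hx => ?_
  obtain ⟨m, hm, rfl⟩ := List.mem_map.1 hx
  exact memZ_memH hS (hl m hm)

theorem K0_le_Hz : K0 hS ≤ Hz hS := by
  rw [K0, Subgroup.closure_le, Set.union_subset_iff, Set.singleton_subset_iff]
  refine ⟨?_, listZ_memH hS hData_mem⟩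
  show Qz hS ≤ Hz hS
  rw [Qz, Subgroup.closure_le]
  have hq : ∀ k < 12, qZ hS k ∈ Hz hS := fun k hk => listZ_memH hS fun m hm => pairMem_lt k hk m hm
  rintro x (rfl | ⟨k, hk, rfl⟩)
  · have h := qZ_conj hS (show 0 < 12 by norm_num) (show 7 < 12 by norm_num)
    rw [show (gramData.getD 0 0).testBit 7 = true by decide +kernel, sgnZ, if_pos rfl] at h
    rw [SetLike.mem_coe, eq_mul_inv_of_mul_eq h.symm]
    exact mul_mem (mul_mem (mul_mem (hq 0 (by norm_num)) (hq 7 (by norm_num))) (inv_mem (hq 0 (by norm_num))))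
      (inv_mem (hq 7 (by norm_num)))
  · exact hq k hk

theorem range_le_Hz : act.range ≤ (Hz hS).map (rho hS) := by
  refine range_le (fun j hj => ?_) ?_
  · exact ⟨memZ hS (3 * j.val), memZ_memH hS (by omega), by
      rw [rho_memZ hS (by omega)]; congr 2; exact Fin.ext (by simp)⟩
  · exact ⟨xZ hS, Subgroup.subset_closure ⟨18, (by norm_num : (18 : ℕ) < 19), by rw [genZ, if_neg (by norm_num)]⟩, rho_xZ hS⟩

/-- All orders at once. -/
theorem orders : Hz hS = ⊤ ∧ Nat.card ↥(Zc ψ) = 321052999680 ∧ (rho hS).range = act.range ∧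
    (rho hS).ker = K0 hS ∧ Nat.card (K0 hS) = 24576 := by
  have hZle : Nat.card ↥(Zc ψ) ≤ 321052999680 := card_centralizer_le hS
  have hH := card_map_mul (rho hS) (Hz hS)
  have hKle : Nat.card (K0 hS) ≤ Nat.card ((rho hS).comp (Hz hS).subtype).ker := by
    refine Nat.card_le_card_of_injective
      (fun x => ⟨⟨x.1, K0_le_Hz hS x.2⟩, K0_le_ker hS x.2⟩) fun x y e => Subtype.ext ?_
    exact congrArg (fun q => q.1.1) e
  have hR : 13063680 ≤ Nat.card ((Hz hS).map (rho hS)) :=
    card_range ▸ Subgroup.card_le_of_le (range_le_Hz hS)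
  have hK := le_card_K0 hS
  have hHZ : Nat.card (Hz hS) ≤ Nat.card ↥(Zc ψ) := Subgroup.card_le_card_group _
  have hprod : 13063680 * 24576 ≤ Nat.card (Hz hS) :=
    hH ▸ Nat.mul_le_mul hR (hK.trans hKle)
  have hZ : Nat.card ↥(Zc ψ) = 321052999680 := by
    norm_num at hprod
    omega
  have htop : Hz hS = ⊤ := Subgroup.eq_top_of_card_eq _ (le_antisymm hHZ (by norm_num at hprod; omega))
  set a := Nat.card ((Hz hS).map (rho hS))
  set b := Nat.card ((rho hS).comp (Hz hS).subtype).ker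
  have hab : a * b = 321052999680 := by
    rw [← hH, htop, Subgroup.card_top, hZ]
  have ha : a = 13063680 := by
    by_contra hc
    have := Nat.mul_le_mul (show 13063681 ≤ a by omega) (hK.trans hKle)
    rw [hab] at this
    norm_num at this
  have hb : b = 24576 := by
    rw [ha] at hab
    omega
  have hrange : (rho hS).range = act.range := by
    rw [MonoidHom.range_eq_map, ← htop]
    exact (Subgroup.eq_of_le_of_card_ge (range_le_Hz hS) (by rw [card_range]; exact ha.le)).symm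
  have hker : Nat.card (rho hS).ker = 24576 := by
    have h := Subgroup.card_eq_card_quotient_mul_card_subgroup (rho hS).ker
    rw [Nat.card_congr (QuotientGroup.quotientKerEquivRange (rho hS)).toEquiv, hrange, card_range, hZ] at h
    omega
  refine ⟨htop, hZ, hrange, ?_, ?_⟩
  · exact (Subgroup.eq_of_le_of_card_ge (K0_le_ker hS) (hker.le.trans hK)).symm
  · exact le_antisymm (hKle.trans hb.le) hK

theorem kerTau : ∀ g, g ∈ (tau hS).ker → g = 1 ∨ g = zZ := by
  obtain ⟨-, -, -, hker, hK⟩ := orders hS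
  have hle : (tau hS).ker ≤ K0 hS := by
    rw [← hker]
    intro g hg
    refine MonoidHom.mem_ker.2 (Equiv.ext fun b => ?_)
    show blockOf (tau hS g (pos4 b 0)) = b
    rw [MonoidHom.mem_ker.1 hg, Equiv.Perm.one_apply, blockOf_pos4]
  obtain ⟨n, hn, -, hd⟩ := card_K0_dvd hS
  have h1 := Nat.le_of_dvd Nat.card_pos hd
  have h3 : 4096 ≤ 2 ^ n := le_trans (by norm_num) (Nat.pow_le_pow_right (by norm_num) hn)
  have hm := card_map_mul (tau hS) (K0 hS)
  rw [hK] at hm
  have h2 := two_le_kerTau hS (Qz_le_K0 hS (zZ_memQ hS))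
  have hcard : Nat.card ((tau hS).comp (K0 hS).subtype).ker = 2 := by
    by_contra hc
    have := Nat.mul_le_mul (show 12288 ≤ Nat.card ((K0 hS).map (tau hS)) by omega)
      (show 3 ≤ Nat.card ((tau hS).comp (K0 hS).subtype).ker by omega)
    omega
  obtain ⟨y, hy, huniq⟩ := (Nat.card_eq_two_iff' (1 : ((tau hS).comp (K0 hS).subtype).ker)).1 hcard
  intro g hg
  by_cases hg1 : g = 1
  · exact Or.inl hg1
  refine Or.inr ?_
  have e1 := huniq ⟨⟨g, hle hg⟩, hg⟩ fun e => hg1 (congrArg (fun q => q.1.1) e)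
  have e2 := huniq ⟨⟨zZ, Qz_le_K0 hS (zZ_memQ hS)⟩, MonoidHom.mem_ker.2 (tau_zZ hS)⟩
    fun e => zZ_ne hS (congrArg (fun q => q.1.1) e)
  exact congrArg (fun q => q.1.1) (e1.trans e2.symm)

theorem kerTau_le_Qz : (tau hS).ker ≤ Qz hS := fun g hg => by
  rcases kerTau hS g hg with rfl | rfl
  exacts [one_mem _, zZ_memQ hS]

theorem card_Qz : Nat.card (Qz hS) = 8192 := by
  obtain ⟨n, hn, hQ, hd⟩ := card_K0_dvd hS
  obtain ⟨-, -, -, -, hK⟩ := orders hS
  have hm := card_map_mul (tau hS) (K0 hS)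
  rw [hK] at hm
  have h2 := two_le_kerTau hS (Qz_le_K0 hS (zZ_memQ hS))
  have h1 := Nat.le_of_dvd Nat.card_pos hd
  have hK' : Nat.card ((K0 hS).map (tau hS)) ≤ 12288 := by
    by_contra hc
    have := Nat.mul_le_mul (show 12289 ≤ Nat.card ((K0 hS).map (tau hS)) by omega) h2
    omega
  have hn' : n = 12 := by
    by_contra hc
    have := Nat.pow_le_pow_right (by norm_num : 2 > 0) (show 13 ≤ n by omega)
    omega
  have hker2 : Nat.card ((tau hS).comp (Qz hS).subtype).ker = 2 := by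
    refine le_antisymm ?_ (two_le_kerTau hS (zZ_memQ hS))
    classical
    have hinj := Nat.card_le_card_of_injective
      (fun x : ((tau hS).comp (Qz hS).subtype).ker => decide (x.1.1 = 1)) fun x y e => by
        have hx := kerTau hS x.1.1 x.2
        have hy := kerTau hS y.1.1 y.2
        refine Subtype.ext (Subtype.ext ?_)
        rcases hx with hx | hx <;> rcases hy with hy | hy <;>
          simp [hx, hy, zZ_ne hS, eq_comm] at e ⊢
    simpa using hinj
  rw [card_map_mul (tau hS), hQ, hn', hker2]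
  norm_num

theorem conjData_lt : ∀ g < 19, ∀ k < 12, (conjData.getD g []).getD k 0 < 4096 := by decide +kernel

theorem genZ_conj {g k : ℕ} (hg : g < 19) (hk : k < 12) :
    genZ hS g * qZ hS k * (genZ hS g)⁻¹ ∈ Qz hS := by
  set e := (conjData.getD g []).getD k 0 with he
  have hok : conjOK g = true := by
    rcases (show g < 7 ∨ (7 ≤ g ∧ g < 13) ∨ (13 ≤ g ∧ g < 19) by omega) with h | h | h
    · exact List.all_eq_true.1 conj_check0 g (by simp; omega)
    · exact List.all_eq_true.1 conj_check1 g (by simp; omega)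
    · exact List.all_eq_true.1 conj_check2 g (by simp; omega)
  have hl : ∀ m ∈ maskMem e, m < 18 := fun m hm => by
    obtain ⟨a, ha, hm⟩ := List.mem_flatMap.1 hm
    exact pairMem_lt a (List.mem_range.1 (List.mem_filter.1 ha).1) m hm
  have heq : tau hS (genZ hS g * qZ hS k) = tau hS (maskZ hS e * genZ hS g) := by
    refine Equiv.ext fun i => Fin.ext ?_
    rw [map_mul, map_mul, Equiv.Perm.mul_apply, Equiv.Perm.mul_apply, tau_genZ hS hg, tau_qZ hS hk,
      maskZ, ← listZ_flatMap, ← maskMem, tau_listZ hS hl, tau_genZ hS hg]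
    exact Nat.eq_of_beq_eq_true (List.all_eq_true.1 (List.all_eq_true.1 hok k (List.mem_range.2 hk)) i.val
      (List.mem_range.2 i.isLt))
  have hker : (maskZ hS e)⁻¹ * (genZ hS g * qZ hS k * (genZ hS g)⁻¹) ∈ (tau hS).ker := by
    rw [MonoidHom.mem_ker, map_mul, map_mul _ (genZ hS g * qZ hS k), heq, map_mul, map_inv, map_inv]
    group
  have h := mul_mem (maskZ_mem hS e) (kerTau_le_Qz hS hker)
  rwa [mul_inv_cancel_left] at h

theorem Qz_normal : (Qz hS).Normal := by
  obtain ⟨htop, -, -, -, -⟩ := orders hS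
  let S : Submonoid ↥(Zc ψ) :=
    { carrier := {g | ∀ y ∈ Qz hS, g * y * g⁻¹ ∈ Qz hS}
      one_mem' := fun y hy => by simpa using hy
      mul_mem' := fun {a b} ha hb y hy => by
        have := ha _ (hb y hy)
        rwa [show a * b * y * (a * b)⁻¹ = a * (b * y * b⁻¹) * a⁻¹ by group] }
  have hgen : ∀ g < 19, genZ hS g ∈ S := by
    intro g hg y hy
    induction hy using Subgroup.closure_induction with
    | mem y hy =>
      rcases hy with rfl | ⟨k, hk, rfl⟩
      · rw [zZ_central, mul_inv_cancel_right]; exact zZ_memQ hS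
      · exact genZ_conj hS hg hk
    | one => rw [mul_one, mul_inv_cancel]; exact one_mem _
    | mul a b _ _ ha hb => rw [← conj_mul]; exact mul_mem ha hb
    | inv a _ ha => rw [← conj_inv]; exact inv_mem ha
  have hall : ∀ g, g ∈ S := by
    intro g
    have hg : g ∈ (Subgroup.closure ((genZ hS) '' {g | g < 19})).toSubmonoid := by
      rw [Subgroup.mem_toSubmonoid, ← Hz, htop]
      exact Subgroup.mem_top g
    rw [Subgroup.closure_toSubmonoid_of_finite] at hg
    refine (Submonoid.closure_le.2 ?_) hg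
    rintro _ ⟨a, ha, rfl⟩
    exact hgen a ha
  exact ⟨fun y hy g => hall g y hy⟩

theorem pair_mem (b : Fin 126) : ∀ k l : Fin 4, mZ hS (pos4 b k) * mZ hS (pos4 b l) ∈ Qz hS := by
  induction b using block_induction with
  | h0 =>
    have q : ∀ k < 12, qZ hS k ∈ Qz hS := fun k hk => qZ_mem hS hk
    have c := mZ_comm hS (0 : Fin 126)
    have s := fun k => mZ_mul_self hS (pos4 (0 : Fin 126) k)
    have h01 : mZ hS (pos4 0 0) * mZ hS (pos4 0 1) ∈ Qz hS := by
      have h := q 0 (by norm_num)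
      rwa [qZ_eq hS (by norm_num)] at h
    have h02 : mZ hS (pos4 0 0) * mZ hS (pos4 0 2) ∈ Qz hS := by
      have h := q 1 (by norm_num)
      rwa [qZ_eq hS (by norm_num)] at h
    have h03 : mZ hS (pos4 0 0) * mZ hS (pos4 0 3) ∈ Qz hS := by
      have h13 : mZ hS (pos4 0 1) * mZ hS (pos4 0 3) ∈ Qz hS := by
        rw [(other_pair hS 0).2]; exact mul_mem (zZ_memQ hS) h02
      have h := mul_mem h01 h13
      rwa [mul_assoc, ← mul_assoc (mZ hS (pos4 0 1)), s 1, one_mul] at h
    have h0 : ∀ k, mZ hS (pos4 0 0) * mZ hS (pos4 0 k) ∈ Qz hS := by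
      intro k
      fin_cases k
      exacts [(s 0).symm ▸ one_mem _, h01, h02, h03]
    intro k l
    have h := mul_mem (h0 k) (h0 l)
    rw [(c 0 k).eq, mul_assoc, ← mul_assoc (mZ hS (pos4 0 0)), s 0, one_mul] at h
    exact h
  | hs t a j hmem ih =>
    obtain ⟨hj, himg⟩ := step_member hmem
    set g := memZ hS j
    intro k l
    have hpre : ∀ k : Fin 4, ∃ k', pos4 t k = tau hS g (pos4 a k') := by
      intro k
      obtain ⟨i, hi⟩ := (tau hS g).surjective (pos4 t k)
      have hb : blockOf i = a := by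
        refine (rho hS g).injective ?_
        rw [rho_blockOf, hi, blockOf_pos4, rho_memZ hS hj]
        exact himg.symm
      exact ⟨⟨i.val % 4, by omega⟩, by rw [← hb, pos4_blockOf, hi]⟩
    obtain ⟨k', hk⟩ := hpre k
    obtain ⟨l', hl⟩ := hpre l
    have hconj : ∀ i, mZ hS (tau hS g i) = g * mZ hS i * g⁻¹ := fun i => Subtype.ext (tau_spec hS g i)
    rw [hk, hl, hconj, hconj, conj_mul]
    exact (Qz_normal hS).conj_mem _ (ih k' l') g

theorem centralizer_Qz {g : ↥(Zc ψ)} (hg : ∀ y ∈ Qz hS, Commute g y) : g ∈ (tau hS).ker := by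
  refine MonoidHom.mem_ker.2 (Equiv.ext fun i => ?_)
  set b := blockOf i
  set k : Fin 4 := ⟨i.val % 4, by omega⟩
  have hik : pos4 b k = i := pos4_blockOf i
  have hpair : ∀ l, l ≠ k → tau hS g i = i ∨ tau hS g i = pos4 b l := by
    intro l hl
    have hne : pos4 b k ≠ pos4 b l := fun e => hl (pos4_inj e).2.symm
    have hcm : Commute (mu ψ (pos4 b k)) (mu ψ (pos4 b l)) :=
      (blk_spec hS b).2 _ (mem_blk.2 ⟨k, rfl⟩) _ (mem_blk.2 ⟨l, rfl⟩)
    have hgp : Commute (g : G) (mu ψ (pos4 b k) * mu ψ (pos4 b l)) :=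
      congrArg Subtype.val (hg _ (pair_mem hS b k l)).eq
    have hprod : mu ψ (tau hS g (pos4 b k)) * mu ψ (tau hS g (pos4 b l)) =
        mu ψ (pos4 b k) * mu ψ (pos4 b l) := by
      rw [tau_spec, tau_spec, conj_mul, hgp.eq, mul_inv_cancel_right]
    have hcm' : Commute (mu ψ (tau hS g (pos4 b k))) (mu ψ (tau hS g (pos4 b l))) := by
      rw [tau_spec, tau_spec]; exact (ThreeTransp.commute_conj_iff _).2 hcm
    have h := ThreeTransp.Products.factorization_unique hS.frame.group.1 hS.frame.group.2.1 2 (by norm_num)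
      (fun k h1 h2 => hS.noProd (2 * k) (by omega) (by omega))
      [mu ψ (tau hS g (pos4 b k)), mu ψ (tau hS g (pos4 b l))] [mu ψ (pos4 b k), mu ψ (pos4 b l)]
      (by simpa using fun e => hne ((tau hS g).injective (mu_inj hS e)))
      (by simpa using fun e => hne (mu_inj hS e)) rfl rfl
      (by simp [mu_mem hS]) (by simp [mu_mem hS])
      (by simp [hcm', hcm'.symm]) (by simp [hcm, hcm.symm]) (by simpa using hprod)
      (mu ψ (tau hS g (pos4 b k)))
    rw [hik] at h
    simp only [List.mem_cons, List.not_mem_nil, or_false, true_or, true_iff] at h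
    exact h.imp (fun e => mu_inj hS e) (fun e => mu_inj hS e)
  obtain ⟨l, m, hl, hm, hlm⟩ : ∃ l m : Fin 4, l ≠ k ∧ m ≠ k ∧ l ≠ m := by
    generalize k = q
    revert q
    decide
  rcases hpair l hl with h | h
  · exact h
  rcases hpair m hm with h' | h'
  · exact h'
  · exact absurd (pos4_inj (h.symm.trans h')).2 hlm

end Cfsg.Agent.Lib.M24Two74
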